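import Groth.Agent.ProjMorph.Eventually

/-!
# `O` is ample on affines, `O(1)` is ample on projective space over an affine
-/

set_option autoImplicit false
set_option linter.style.haveILetI false
universe u

open CategoryTheory Limits AlgebraicGeometry TopologicalSpace Opposite

noncomputable section

namespace Groth.Agent.ProjMorph

open Groth.Agent.QCoh Groth.Agent.Props.GenLocus Groth.Agent.AmpleLib
open Groth.Agent.Props.GenTensor Groth.Agent.Props.GenProd

variable {X Y : Scheme.{u}}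

theorem exists_iso_of_gen_top {M : X.Modules} {g : Γ(M, ⊤)} (hg : IsGen M ⊤ g) :
    Nonempty (Coh.structureModule X ≅ M) := by
  obtain ⟨φ, -⟩ := exists_iso_of_gen (M := Coh.structureModule X) (N := M)
    (fun _ : PUnit.{u + 1} => ⊤) (fun x _ => Opens.mem_iSup.mpr ⟨⟨⟩, trivial⟩)
    (fun _ => one' ⊤) (fun _ => Groth.Agent.ProjMorph.isGen_one ⊤) (fun _ => g) (fun _ => hg)
    (fun _ _ V hi hj w hw => by
      have h1 : (1 : Γ(X, V)) • res (Coh.structureModule X) hi (one' ⊤) =
          w • res (Coh.structureModule X) hi (one' ⊤) := by rw [one_smul]; exact hw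
      rw [← (Groth.Agent.ProjMorph.isGen_one (⊤ : X.Opens)).injective hi h1, one_smul])
  exact ⟨φ⟩

theorem exists_iso_tensorPow_structure (n : ℕ) :
    Nonempty (Coh.structureModule X ≅ CohB1.tensorPow (Coh.structureModule X) n) :=
  exists_iso_of_gen_top (isGen_pw (Groth.Agent.ProjMorph.isGen_one ⊤) n)

theorem isAmple_structureModule [IsAffine X] : CohB1.IsAmple (Coh.structureModule X) := by
  refine ⟨isInvertible_structureModule, inferInstance, fun x => ⟨0,
    homOfSec (L := CohB1.tensorPow (Coh.structureModule X) (0 + 1)) (pw _ (one' ⊤) (0 + 1)), ?_⟩⟩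
  have h : CohB1.genLocus _ (homOfSec (L := CohB1.tensorPow (Coh.structureModule X) (0 + 1))
      (pw _ (one' (⊤ : X.Opens)) (0 + 1))) = ⊤ := by
    refine top_le_iff.mp ?_
    rw [genLocus_homOfSec]
    exact le_locus le_rfl (by rw [res_self]; exact isGen_pw (Groth.Agent.ProjMorph.isGen_one ⊤) _)
  rw [h]
  exact ⟨trivial, isAffineOpen_top X⟩

theorem isAmple_of_sections [CompactSpace X] {L : X.Modules} (hL : PicF.IsInvertible L)
    {ι : Type*} (s : ι → ProjUP.Γm L) (hcov : ⊤ ≤ ⨆ i, locus (O := ⊤) (s i))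
    (haff : ∀ i, IsAffineOpen (locus (O := ⊤) (s i))) : CohB1.IsAmple L := by
  refine ⟨hL, inferInstance, fun x => ?_⟩
  obtain ⟨i, hi⟩ := Opens.mem_iSup.mp (hcov (trivial : x ∈ (⊤ : X.Opens)))
  let σ : Γ(CohB1.tensorPow L (0 + 1), ⊤) := tmul (one' ⊤) (s i)
  have hone : locus (O := ⊤) (one' (⊤ : X.Opens)) = ⊤ :=
    top_le_iff.mp (le_locus le_rfl (by rw [res_self]; exact Groth.Agent.ProjMorph.isGen_one ⊤))
  have hσ : locus (O := ⊤) σ = locus (O := ⊤) (s i) :=
    (locus_tmul isInvertible_structureModule hL (one' ⊤) (s i)).trans (by rw [hone, top_inf_eq])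
  exact ⟨0, homOfSec σ, by rw [genLocus_homOfSec, hσ]; exact ⟨hi, haff i⟩⟩

theorem isAmple_pullback_twist_of_isAffineHom {n : ℕ} {R : Type u} [CommRing R] {P : Scheme.{u}}
    (p : P ⟶ Proj (CohB1.polyGrading n R)) (hp : IsAffineHom p) :
    CohB1.IsAmple ((Scheme.Modules.pullback p).obj (Twist.twist (CohB1.polyGrading n R) 1)) := by
  haveI := hp
  let t : Fin (n + 1) → MvPolynomial (Fin (n + 1)) R := fun k => MvPolynomial.X k
  have ht : ∀ k, t k ∈ CohB1.polyGrading n R 1 := fun k => MvPolynomial.isHomogeneous_X R k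
  have hgen : Algebra.adjoin R (Set.range t) = ⊤ := MvPolynomial.adjoin_range_X
  have hM := isInvertible_twist_one t ht hgen
  have haff : ∀ k, IsAffineOpen (p ⁻¹ᵁ Proj.basicOpen _ (t k)) := fun k =>
    (Proj.isAffineOpen_basicOpen _ _ (ht k) one_pos).preimage p
  have hcov : ⊤ ≤ ⨆ k, p ⁻¹ᵁ Proj.basicOpen _ (t k) := by
    rw [← p.preimage_iSup, iSup_basicOpen_gen t ht hgen, p.preimage_top]
  haveI : CompactSpace P := ⟨by
    have h : (Set.univ : Set P) =
        ⋃ k, ((p ⁻¹ᵁ Proj.basicOpen (CohB1.polyGrading n R) (t k) : P.Opens) : Set P) :=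
      Set.eq_univ_iff_forall.mpr (fun x => by
        obtain ⟨k, hk⟩ := Opens.mem_iSup.mp (hcov (trivial : x ∈ (⊤ : P.Opens)))
        exact Set.mem_iUnion.mpr ⟨k, hk⟩) |>.symm
    rw [h]
    exact isCompact_iUnion fun k => (haff k).isCompact⟩
  have hloc : ∀ k, locus (O := ⊤) (ProjUP.pullSec p (Twist.twist (CohB1.polyGrading n R) 1)
      (gsec (ht k))) = p ⁻¹ᵁ Proj.basicOpen _ (t k) := fun k => by
    rw [← locus_gsec t ht hgen (ht k), ← locus_pb p hM]
    rfl
  refine isAmple_of_sections (PicCl.isInvertible_pullback p hM) _ (hcov.trans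
    (iSup_mono fun k => (hloc k).ge)) fun k => ?_
  rw [hloc k]
  exact haff k

theorem isAmple_twistOver [IsAffine Y] (n : ℕ) : CohB1.IsAmple (Twist.twistOver n Y 1) := by
  haveI : IsAffineHom (specULiftZIsTerminal.from Y) := isAffineHom_of_isAffine _
  exact isAmple_pullback_twist_of_isAffineHom _ (MorphismProperty.pullback_fst _ _ inferInstance)

theorem isAmple_of_isRelVeryAmplePn [IsAffine Y] (q : X ⟶ Y) [CompactSpace X] {L : X.Modules}
    (h : RelAmple.IsRelVeryAmplePn q L) : CohB1.IsAmple L := by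
  obtain ⟨n, i, hi, -, ⟨φ⟩⟩ := h
  exact isAmple_of_iso φ.symm
    (isAmple_pullback_of_isInducing i i.isEmbedding.isInducing (isAmple_twistOver n))

theorem eventually_veryAmplePn_pow [IsAffine Y] (q : X ⟶ Y) [IsSeparated q] [QuasiCompact q]
    [LocallyOfFiniteType q] {L : X.Modules} (h : CohB1.IsAmple L) :
    ∃ n₀ : ℕ, ∀ n, n₀ ≤ n → RelAmple.IsRelVeryAmplePn q (CohB1.tensorPow L n) := by
  obtain ⟨n₀, hn₀⟩ := eventually_veryAmplePn q h (isInvertible_structureModule (X := X))
  refine ⟨n₀, fun n hn => isRelVeryAmplePn_of_iso ?_ (hn₀ n hn)⟩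
  exact (exists_iso_tensor_one (isInvertible_tensorPow h.1 n)).some

theorem isRelVeryAmplePn_of_isAffine [IsAffine Y] [IsAffine X] (q : X ⟶ Y) [LocallyOfFiniteType q]
    {L : X.Modules} (hL : PicF.IsInvertible L) : RelAmple.IsRelVeryAmplePn q L := by
  obtain ⟨n₀, hn₀⟩ := eventually_veryAmplePn q (isAmple_structureModule (X := X)) hL
  obtain ⟨ψ⟩ := exists_iso_tensorPow_structure (X := X) n₀
  exact isRelVeryAmplePn_of_iso
    (PicGrp.tensorModIso ψ.symm (Iso.refl L) ≪≫
      (exists_iso_tensor_comm isInvertible_structureModule hL).some ≪≫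
      (exists_iso_tensor_one hL).some) (hn₀ n₀ le_rfl)

end Groth.Agent.ProjMorph

end
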