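import Groth.Agent.ProjMorph.Sections

/-!
# Structure maps
-/

set_option autoImplicit false
universe u

open CategoryTheory AlgebraicGeometry TopologicalSpace Opposite

noncomputable section

namespace Groth.Agent.ProjMorph

theorem toSpecΓ_toGlobal {X : Scheme.{u}} {R : Type u} [CommRing R]
    (q : X ⟶ Spec (CommRingCat.of R)) :
    X.toSpecΓ ≫ Spec.map (CommRingCat.ofHom (ProjUP.toGlobal q)) = q := by
  have : CommRingCat.ofHom (ProjUP.toGlobal q) =
      (Scheme.ΓSpecIso (CommRingCat.of R)).inv ≫ q.appTop := rfl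
  rw [this, Spec.map_comp, ← Scheme.toSpecΓ_naturality_assoc]
  exact (congrArg (q ≫ ·) (toSpecΓ_SpecMap_ΓSpecIso_inv _)).trans (Category.comp_id q)

end Groth.Agent.ProjMorph

end
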