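import Groth.Agent.ProjMorph.Base
import Groth.Prelude.Def_LCI2

/-!
# A criterion for very ampleness relative to a morphism to an affine scheme
-/

set_option autoImplicit false
set_option linter.style.haveILetI false
universe u

open CategoryTheory Limits AlgebraicGeometry TopologicalSpace Opposite

noncomputable section

namespace Groth.Agent.ProjMorph

open Groth.Agent.QCoh Groth.Agent.Props.GenLocus Groth.Agent.AmpleLib

variable {X Y : Scheme.{u}}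

theorem surjective_appTop_morphismRestrict (f : X ⟶ Y) (U : Y.Opens)
    (h : Function.Surjective (f.app U)) : Function.Surjective (f ∣_ U).appTop := by
  have key : ∀ (V' : Y.Opens) (W' : X.Opens) (e : W' ≤ f ⁻¹ᵁ V'), V' = U → W' = f ⁻¹ᵁ U →
      Function.Surjective (f.appLE V' W' e) := by
    rintro V' W' e rfl rfl
    rw [← Scheme.Hom.app_eq_appLE]
    exact h
  rw [show (f ∣_ U).appTop = (f ∣_ U).app ⊤ from rfl, morphismRestrict_app']
  exact key _ _ _ (by simp) (by simp [Scheme.Opens.ι_image_top])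

/-- An immersion criterion by finitely many affine pieces. -/
theorem isImmersion_of_affine_pieces {ι : Type*} (f : X ⟶ Y) (V : ι → Y.Opens)
    (hV : ∀ i, IsAffineOpen (V i)) (hU : ∀ i, IsAffineOpen (f ⁻¹ᵁ V i))
    (hcov : ⊤ ≤ ⨆ i, f ⁻¹ᵁ V i) (hs : ∀ i, Function.Surjective (f.app (V i))) : IsImmersion f := by
  haveI : MorphismProperty.RespectsRight @IsImmersion @IsOpenImmersion :=
    ⟨fun i hi g hg => by
      haveI : IsImmersion g := hg
      haveI : IsOpenImmersion i := hi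
      exact inferInstanceAs (IsImmersion (g ≫ i))⟩
  refine IsZariskiLocalAtTarget.of_range_subset_iSup (P := @IsImmersion) V ?_ fun i => ?_
  · rintro _ ⟨x, rfl⟩
    obtain ⟨i, hi⟩ := Opens.mem_iSup.mp (hcov (trivial : x ∈ (⊤ : X.Opens)))
    exact Opens.mem_iSup.mpr ⟨i, hi⟩
  · haveI : IsAffine (V i).toScheme := hV i
    haveI : IsAffine (f ⁻¹ᵁ V i).toScheme := hU i
    haveI := IsClosedImmersion.of_surjective_of_isAffine (f ∣_ V i)
      (surjective_appTop_morphismRestrict f (V i) (hs i))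
    infer_instance

/-- Surjectivity on a piece, from generation by the base and the ratios. -/
theorem surjective_app_pieces {R A : Type u} [CommRing R] [CommRing A] [Algebra R A]
    {𝒜 : ℕ → Submodule R A} [GradedAlgebra 𝒜] {P : Scheme.{u}} (i : X ⟶ P) (p₁ : P ⟶ Proj 𝒜)
    (p₂ : P ⟶ Y) (hp₁ : IsAffineHom p₁) {κ : Type*} (t : κ → A) (ht : ∀ k, t k ∈ 𝒜 1) {L : X.Modules}
    (s : κ → ProjUP.Γm L) (k₀ : κ)
    (hpre : ∀ k, (i ≫ p₁) ⁻¹ᵁ Proj.basicOpen 𝒜 (t k) = locus (O := ⊤) (s k))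
    (hcoef : ∀ k l, res L (le_top : (i ≫ p₁) ⁻¹ᵁ Proj.basicOpen 𝒜 (t k) ≤ ⊤) (s l) =
      (i ≫ p₁).app _ (ratio (ht k) (ht l)) • res L le_top (s k))
    (hgen : ∀ c : κ → Γ(X, locus (O := ⊤) (s k₀)),
      (∀ l, res L (le_top : locus (O := ⊤) (s k₀) ≤ ⊤) (s l) = c l • res L le_top (s k₀)) →
      Subring.closure (Set.range ((i ≫ p₂).appLE ⊤ (locus (O := ⊤) (s k₀)) le_top) ∪ Set.range c) = ⊤) :
    Function.Surjective (i.app (p₁ ⁻¹ᵁ Proj.basicOpen 𝒜 (t k₀))) := by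
  set D := Proj.basicOpen 𝒜 (t k₀)
  set U := locus (O := ⊤) (s k₀) with hUdef
  have hUD : (i ≫ p₁) ⁻¹ᵁ D = U := hpre k₀
  have hUV : U ≤ i ⁻¹ᵁ (p₁ ⁻¹ᵁ D) := by rw [← Scheme.Hom.comp_preimage, hUD]
  suffices hsurj : Function.Surjective (i.appLE (p₁ ⁻¹ᵁ D) U hUV) by
    intro z
    obtain ⟨a, ha⟩ := hsurj (rres hUV z)
    refine ⟨a, ?_⟩
    have hle : i ⁻¹ᵁ (p₁ ⁻¹ᵁ D) ≤ U := hUD.le
    have h2 := congrArg (rres hle) ha
    rw [rres_rres, rres_self] at h2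
    rw [← h2, Scheme.Hom.appLE]
    exact ((rres_rres hUV hle _).trans (rres_self _ _)).symm
  let S := (i.appLE (p₁ ⁻¹ᵁ D) U hUV).hom.range
  suffices h : S = ⊤ by
    intro z
    exact (h ▸ Subring.mem_top z : z ∈ S)
  let c : κ → Γ(X, U) := fun k => (i ≫ p₁).appLE D U hUD.ge
    (ratio (ht k₀) (ht k))
  have hc : ∀ k, res L (le_top : U ≤ ⊤) (s k) = c k • res L le_top (s k₀) := by
    intro k
    have h1 := congrArg (res L hUD.ge) (hcoef k₀ k)
    rw [res_res, res_smul, res_res] at h1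
    exact h1
  rw [← top_le_iff, ← hgen c hc, Subring.closure_le]
  rintro _ (⟨z, rfl⟩ | ⟨k, rfl⟩)
  · refine ⟨p₂.appLE ⊤ (p₁ ⁻¹ᵁ D) le_top z, ?_⟩
    exact ConcreteCategory.congr_hom (Scheme.Hom.appLE_comp_appLE i p₂ ⊤ (p₁ ⁻¹ᵁ D) U le_top hUV) z
  · refine ⟨p₁.app D (ratio (ht k₀) (ht k)), ?_⟩
    exact (ConcreteCategory.congr_hom (Scheme.Hom.comp_appLE i p₁ D U hUD.ge) _).symm

/-- An immersion criterion for maps into an affine-over-`Proj` scheme over an affine scheme. -/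
theorem isImmersion_of_pieces {R A : Type u} [CommRing R] [CommRing A] [Algebra R A]
    {𝒜 : ℕ → Submodule R A} [GradedAlgebra 𝒜] {P : Scheme.{u}} (i : X ⟶ P) (p₁ : P ⟶ Proj 𝒜)
    (p₂ : P ⟶ Y) (hp₁ : IsAffineHom p₁) {κ : Type*} (t : κ → A) (ht : ∀ k, t k ∈ 𝒜 1) {L : X.Modules}
    (s : κ → ProjUP.Γm L) (J : Set κ)
    (hcov : ⊤ ≤ ⨆ k ∈ J, locus (O := ⊤) (s k))
    (haff : ∀ k ∈ J, IsAffineOpen (locus (O := ⊤) (s k)))
    (hpre : ∀ k, (i ≫ p₁) ⁻¹ᵁ Proj.basicOpen 𝒜 (t k) = locus (O := ⊤) (s k))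
    (hcoef : ∀ k l, res L (le_top : (i ≫ p₁) ⁻¹ᵁ Proj.basicOpen 𝒜 (t k) ≤ ⊤) (s l) =
      (i ≫ p₁).app _ (ratio (ht k) (ht l)) • res L le_top (s k))
    (hgen : ∀ k ∈ J, ∀ c : κ → Γ(X, locus (O := ⊤) (s k)),
      (∀ l, res L (le_top : locus (O := ⊤) (s k) ≤ ⊤) (s l) = c l • res L le_top (s k)) →
      Subring.closure (Set.range ((i ≫ p₂).appLE ⊤ (locus (O := ⊤) (s k)) le_top) ∪ Set.range c) = ⊤) :
    IsImmersion i := by
  haveI := hp₁
  refine isImmersion_of_affine_pieces (ι := J) i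
    (fun j => p₁ ⁻¹ᵁ Proj.basicOpen 𝒜 (t j.1)) (fun j => ?_)
    (fun j => ?_) ?_ fun j => ?_
  · exact (Proj.isAffineOpen_basicOpen _ _ (ht j.1) one_pos).preimage p₁
  · rw [← Scheme.Hom.comp_preimage, hpre]
    exact haff j.1 j.2
  · refine hcov.trans (iSup₂_le fun k hk => le_iSup_of_le ⟨k, hk⟩ ?_)
    rw [← Scheme.Hom.comp_preimage, hpre]
  · exact surjective_app_pieces i p₁ p₂ hp₁ t ht s j.1 hpre hcoef (hgen j.1 j.2)

/-- A closed immersion criterion: every piece is affine and generated by base and ratios. -/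
theorem isClosedImmersion_of_pieces {R A : Type u} [CommRing R] [CommRing A] [Algebra R A]
    {𝒜 : ℕ → Submodule R A} [GradedAlgebra 𝒜] {P : Scheme.{u}} (i : X ⟶ P) (p₁ : P ⟶ Proj 𝒜)
    (p₂ : P ⟶ Y) (hp₁ : IsAffineHom p₁) {κ : Type*} (t : κ → A) (ht : ∀ k, t k ∈ 𝒜 1)
    (htop : Algebra.adjoin R (Set.range t) = ⊤) {L : X.Modules}
    (s : κ → ProjUP.Γm L)
    (haff : ∀ k, IsAffineOpen (locus (O := ⊤) (s k)))
    (hpre : ∀ k, (i ≫ p₁) ⁻¹ᵁ Proj.basicOpen 𝒜 (t k) = locus (O := ⊤) (s k))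
    (hcoef : ∀ k l, res L (le_top : (i ≫ p₁) ⁻¹ᵁ Proj.basicOpen 𝒜 (t k) ≤ ⊤) (s l) =
      (i ≫ p₁).app _ (ratio (ht k) (ht l)) • res L le_top (s k))
    (hgen : ∀ k, ∀ c : κ → Γ(X, locus (O := ⊤) (s k)),
      (∀ l, res L (le_top : locus (O := ⊤) (s k) ≤ ⊤) (s l) = c l • res L le_top (s k)) →
      Subring.closure (Set.range ((i ≫ p₂).appLE ⊤ (locus (O := ⊤) (s k)) le_top) ∪ Set.range c) = ⊤) :
    IsClosedImmersion i := by
  haveI := hp₁
  have hcov : ⨆ k, p₁ ⁻¹ᵁ Proj.basicOpen 𝒜 (t k) = ⊤ := by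
    rw [← p₁.preimage_iSup, iSup_basicOpen_gen t ht htop, p₁.preimage_top]
  rw [IsZariskiLocalAtTarget.iff_of_iSup_eq_top (P := @IsClosedImmersion) _ hcov]
  intro k
  haveI : IsAffine (p₁ ⁻¹ᵁ Proj.basicOpen 𝒜 (t k)).toScheme :=
    (Proj.isAffineOpen_basicOpen _ _ (ht k) one_pos).preimage p₁
  haveI : IsAffine (i ⁻¹ᵁ (p₁ ⁻¹ᵁ Proj.basicOpen 𝒜 (t k))).toScheme := by
    have h : i ⁻¹ᵁ (p₁ ⁻¹ᵁ Proj.basicOpen 𝒜 (t k)) = locus (O := ⊤) (s k) := by
      rw [← Scheme.Hom.comp_preimage, hpre]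
    rw [h]
    exact haff k
  exact IsClosedImmersion.of_surjective_of_isAffine _ (surjective_appTop_morphismRestrict i _
    (surjective_app_pieces i p₁ p₂ hp₁ t ht s k hpre hcoef (hgen k)))

/-- The morphism to projective space over `Y` given by generating sections. -/
theorem exists_toProjSpaceOver (q : X ⟶ Y) {L : X.Modules} (hL : PicF.IsInvertible L) {n : ℕ}
    (s : Fin (n + 1) → ProjUP.Γm L) (hsgen : ProjUP.GeneratedBy L s) :
    ∃ i : X ⟶ CohB1.ProjSpaceOver n Y, i ≫ CohB1.ProjSpaceOver.toBase n Y = q ∧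
      (∀ k, (i ≫ pullback.fst (CohB1.ProjSpace.toSpec n (ULift.{u} ℤ)) (specULiftZIsTerminal.from Y)) ⁻¹ᵁ
        Proj.basicOpen (CohB1.polyGrading n (ULift.{u} ℤ)) (MvPolynomial.X k) = locus (O := ⊤) (s k)) ∧
      (∀ k l, res L (le_top : (i ≫ pullback.fst (CohB1.ProjSpace.toSpec n (ULift.{u} ℤ))
          (specULiftZIsTerminal.from Y)) ⁻¹ᵁ
          Proj.basicOpen (CohB1.polyGrading n (ULift.{u} ℤ)) (MvPolynomial.X k) ≤ ⊤) (s l) =
        (i ≫ pullback.fst (CohB1.ProjSpace.toSpec n (ULift.{u} ℤ)) (specULiftZIsTerminal.from Y)).app _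
          (ratio (MvPolynomial.isHomogeneous_X (ULift.{u} ℤ) k)
            (MvPolynomial.isHomogeneous_X (ULift.{u} ℤ) l)) • res L le_top (s k)) ∧
      Nonempty (L ≅ (Scheme.Modules.pullback i).obj (Twist.twistOver n Y 1)) := by
  let q₀ : (ULift.{u} ℤ) →+* Γ(X, ⊤) := ProjUP.toGlobal (specULiftZIsTerminal.from X)
  obtain ⟨r, τ, hr, hpre, hcoef, -⟩ := exists_to_proj (𝒜 := CohB1.polyGrading n (ULift.{u} ℤ))
    (fun i => MvPolynomial.X i) (fun i => MvPolynomial.isHomogeneous_X (ULift.{u} ℤ) i)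
    MvPolynomial.adjoin_range_X q₀ hL s hsgen fun i c _ =>
      ⟨MvPolynomial.eval₂Hom ((rres le_top).hom.comp q₀) c,
        RingHom.ext fun a => MvPolynomial.eval₂Hom_C _ _ a, fun j => MvPolynomial.eval₂Hom_X' _ _ j⟩
  let i : X ⟶ CohB1.ProjSpaceOver n Y :=
    pullback.lift r q (specULiftZIsTerminal.hom_ext _ _)
  have hi1 : i ≫ pullback.fst _ _ = r := pullback.lift_fst _ _ _
  have hi2 : i ≫ pullback.snd _ _ = q := pullback.lift_snd _ _ _
  clear_value i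
  subst hi1 hi2
  exact ⟨i, rfl, hpre, hcoef, ⟨τ.symm ≪≫ ((Scheme.Modules.pullbackComp i _).app _).symm⟩⟩

/-- Sections whose affine loci cover and whose ratios generate give very ampleness. -/
theorem isRelVeryAmplePn_of_sections [IsAffine Y] (q : X ⟶ Y) {L : X.Modules}
    (hL : PicF.IsInvertible L) {n : ℕ} (s : Fin (n + 1) → ProjUP.Γm L) (J : Set (Fin (n + 1)))
    (hcov : ⊤ ≤ ⨆ i ∈ J, locus (O := ⊤) (s i))
    (haff : ∀ i ∈ J, IsAffineOpen (locus (O := ⊤) (s i)))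
    (hgen : ∀ i ∈ J, ∀ c : Fin (n + 1) → Γ(X, locus (O := ⊤) (s i)),
      (∀ j, res L (le_top : locus (O := ⊤) (s i) ≤ ⊤) (s j) = c j • res L le_top (s i)) →
      Subring.closure (Set.range (q.appLE ⊤ (locus (O := ⊤) (s i)) le_top) ∪ Set.range c) = ⊤) :
    RelAmple.IsRelVeryAmplePn q L := by
  have hsgen : ProjUP.GeneratedBy L s := by
    intro x
    obtain ⟨i, hi⟩ := Opens.mem_iSup.mp (hcov (trivial : x ∈ (⊤ : X.Opens)))
    obtain ⟨-, hxi⟩ := Opens.mem_iSup.mp hi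
    have hg := isGen_locus (O := ⊤) (s i)
    have hbij := ((isGen_iff_isFrame _).mp hg).stalkComb_bijective x hxi
    refine top_le_iff.mp fun z _ => ?_
    obtain ⟨a, ha⟩ := hbij.2 z
    rw [← ha]
    simp only [LFFrame.stalkComb, Fintype.linearCombination_apply, Fin.sum_univ_one]
    refine Submodule.smul_mem _ _ (Submodule.subset_span ⟨i, ?_⟩)
    exact (L.presheaf.germ_res_apply _ x hxi (s i)).symm
  obtain ⟨i, rfl, hpre, hcoef, ⟨e⟩⟩ := exists_toProjSpaceOver q hL s hsgen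
  haveI : IsAffineHom (specULiftZIsTerminal.from Y) := isAffineHom_of_isAffine _
  refine ⟨n, i, ?_, rfl, ⟨e⟩⟩
  exact isImmersion_of_pieces i _ _ (MorphismProperty.pullback_fst _ _ inferInstance) (fun k => MvPolynomial.X k)
    (fun k => MvPolynomial.isHomogeneous_X (ULift.{u} ℤ) k) s J hcov haff hpre hcoef hgen

end Groth.Agent.ProjMorph

end
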