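import Groth.Agent.ProjMorph.Glue
import Groth.Agent.Props.ProjFrame
import Groth.Agent.AmpleLib.CompLemma
import Groth.Prelude.Def_ProjUP

/-!
# Morphisms to `Proj` given by generating sections of an invertible module
-/

set_option autoImplicit false
set_option linter.style.haveILetI false
universe u v

open CategoryTheory Limits AlgebraicGeometry TopologicalSpace Opposite HomogeneousLocalization

noncomputable section

namespace Groth.Agent.ProjMorph

open Groth.Agent.QCoh Groth.Agent.Props.GenLocus Groth.Agent.AmpleLib Groth.Agent.Props.ProjFrame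
open Groth.Agent.Props.GenPull Groth.Agent.ProjTwist

variable {X : Scheme.{u}}

/-- If sections generate an invertible module, their loci cover. -/
theorem iSup_locus_of_generatedBy {L : X.Modules} (hL : PicF.IsInvertible L) {ι : Type*}
    (s : ι → ProjUP.Γm L) (hs : ProjUP.GeneratedBy L s) : ⊤ ≤ ⨆ i, locus (O := ⊤) (s i) := by
  intro x _
  obtain ⟨W, e, hxW, he⟩ := exists_isGen hL x
  have hf : ∀ i, ∃ f : Γ(X, W), res L (le_top : W ≤ ⊤) (s i) = f • e := fun i ↦ by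
    obtain ⟨f, hf, -⟩ := he.exists_eq le_rfl (res L (le_top : W ≤ ⊤) (s i))
    exact ⟨f, by rwa [res_self L le_rfl e] at hf⟩
  choose f hf using hf
  by_contra hx
  have hm : ∀ i, X.presheaf.germ W x hxW (f i) ∈ IsLocalRing.maximalIdeal (X.presheaf.stalk x) :=
    fun i ↦ (IsLocalRing.mem_maximalIdeal _).mpr fun hu ↦ hx (Opens.mem_iSup.mpr ⟨i, by
      have h1 := congrArg (fun V : X.Opens ↦ x ∈ V) (locus_inf le_top he (s i) (hf i))
      exact ((iff_of_eq h1).mpr ((X.mem_basicOpen (f i) x hxW).mpr hu)).1⟩)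
  have hbij := ((isGen_iff_isFrame e).mp he).stalkComb_bijective x hxW
  let g := Groth.Agent.PullStalk.Sky.germM L W x hxW e
  have hg : ∀ i, (L.presheaf.germ ⊤ x trivial).hom (s i) = X.presheaf.germ W x hxW (f i) • g := by
    intro i
    have h1 := congrArg (Groth.Agent.PullStalk.Sky.germM L W x hxW) (hf i)
    rw [Groth.Agent.PullStalk.Sky.germM_smul] at h1
    exact (L.presheaf.germ_res_apply _ x hxW (s i)).symm.trans h1
  have hspan : g ∈ Submodule.span (X.presheaf.stalk x)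
      (Set.range fun i => (L.presheaf.germ ⊤ x trivial).hom (s i)) := hs x ▸ Submodule.mem_top
  have hmem : ∀ y ∈ Submodule.span (X.presheaf.stalk x)
      (Set.range fun i => (L.presheaf.germ ⊤ x trivial).hom (s i)),
      ∃ a ∈ IsLocalRing.maximalIdeal (X.presheaf.stalk x), y = a • g := by
    intro y hy
    induction hy using Submodule.span_induction with
    | mem y hy => obtain ⟨i, rfl⟩ := hy; exact ⟨_, hm i, hg i⟩
    | zero => exact ⟨0, zero_mem _, (zero_smul _ _).symm⟩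
    | add y z _ _ hy hz =>
      obtain ⟨a, ha, rfl⟩ := hy
      obtain ⟨b, hb, rfl⟩ := hz
      exact ⟨a + b, add_mem ha hb, (add_smul _ _ _).symm⟩
    | smul c y _ hy =>
      obtain ⟨a, ha, rfl⟩ := hy
      exact ⟨c * a, Ideal.mul_mem_left _ c ha, smul_smul _ _ _⟩
  obtain ⟨a, ha, hga⟩ := hmem g hspan
  have h1 : (fun _ : Fin 1 => (1 : X.presheaf.stalk x)) = fun _ => a := by
    refine hbij.1 ?_
    simp only [LFFrame.stalkComb, Fintype.linearCombination_apply, Fin.sum_univ_one, one_smul]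
    exact hga
  exact (IsLocalRing.maximalIdeal.isMaximal _).ne_top
    ((Ideal.eq_top_iff_one _).mpr (congrFun h1 0 ▸ ha))

variable {R A : Type u} [CommRing R] [CommRing A] [Algebra R A] {𝒜 : ℕ → Submodule R A}
  [GradedAlgebra 𝒜]

/-- A degree one element as a frame of `O(1)` on its basic open. -/
abbrev frame {a : A} (ha : a ∈ 𝒜 1) : Γ(Twist.twist 𝒜 1, Proj.basicOpen 𝒜 a) :=
  frac (D := 1) ha _

/-- A degree one element as a global section of `O(1)`. -/
abbrev gsec {a : A} (ha : a ∈ 𝒜 1) : ProjUP.Γm (Twist.twist 𝒜 1) :=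
  Twist.globalOf 𝒜 ⟨a, ha⟩

/-- The ratio `b / a` on `D₊(a)`. -/
abbrev ratio {a b : A} (ha : a ∈ 𝒜 1) (hb : b ∈ 𝒜 1) : Γ(Proj 𝒜, Proj.basicOpen 𝒜 a) :=
  coeff hb ha _ le_rfl

lemma isGen_frame {a : A} (ha : a ∈ 𝒜 1) : IsGen (Twist.twist 𝒜 1) _ (frame ha) :=
  isGen_frac ha

lemma res_gsec {a b : A} (ha : a ∈ 𝒜 1) (hb : b ∈ 𝒜 1) :
    res (Twist.twist 𝒜 1) (le_top : Proj.basicOpen 𝒜 a ≤ ⊤) (gsec hb) = ratio ha hb • frame ha := by
  refine sectN_ext (fun x => ?_)
  refine Eq.trans ?_ (smul_coe _ _ x).symm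
  change Localization.mk b ⟨1, _⟩ = valAt (ratio ha hb) x * Localization.mk a ⟨1, _⟩
  rw [valAt_coeff, mk_mul_mk, Localization.mk_eq_mk_iff, Localization.r_iff_exists]
  exact ⟨1, by simp [mul_comm]⟩

lemma awayToSection_mk_one {a b : A} (ha : a ∈ 𝒜 1) (hb : b ∈ 𝒜 1) (h : b ∈ 𝒜 (1 • 1)) :
    Proj.awayToSection 𝒜 a (Away.mk 𝒜 ha 1 b h) = ratio ha hb := by
  refine valAt_ext fun x => ?_
  rw [valAt_coeff]
  refine (ProjectiveSpectrum.Proj.awayToSection_apply 𝒜 a _ x).trans ?_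
  rw [Away.val_mk, Localization.mk_eq_mk', IsLocalization.map_mk', ← Localization.mk_eq_mk']
  exact congrArg _ (Subtype.ext (pow_one a))

lemma ratio_self {a : A} (ha : a ∈ 𝒜 1) : ratio ha ha = 1 := valAt_ext fun x => by
  rw [valAt_coeff]
  exact (Localization.mk_self (S := (show ProjectiveSpectrum 𝒜 from x.1).asHomogeneousIdeal.toIdeal.primeCompl) ⟨a, x.2⟩).trans
    HomogeneousLocalization.val_one.symm

lemma locus_gsec {ι : Type v} (t : ι → A) (ht : ∀ i, t i ∈ 𝒜 1)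
    (hgen : Algebra.adjoin R (Set.range t) = ⊤) {a : A} (ha : a ∈ 𝒜 1) :
    locus (O := ⊤) (gsec ha) = Proj.basicOpen 𝒜 a := by
  refine le_antisymm (fun x hx => ?_) (le_locus le_top ?_)
  · obtain ⟨j, hj⟩ := Opens.mem_iSup.mp
      ((iSup_basicOpen_gen t ht hgen).ge (trivial : x ∈ (⊤ : (Proj 𝒜).Opens)))
    have h1 := locus_inf le_top (isGen_frame (ht j)) (gsec ha) (res_gsec (ht j) ha)
    rw [basicOpen_coeff] at h1
    exact (h1.le ⟨hx, hj⟩).2
  · rw [res_gsec ha ha]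
    refine (isGen_frame ha).smul_unit ?_
    rw [ratio_self ha]
    exact isUnit_one

lemma isInvertible_twist_one {ι : Type v} (t : ι → A) (ht : ∀ i, t i ∈ 𝒜 1)
    (hgen : Algebra.adjoin R (Set.range t) = ⊤) : PicF.IsInvertible (Twist.twist 𝒜 1) :=
  isInvertible_of_exists_isGen fun x ↦
    let ⟨j, hj⟩ := Opens.mem_iSup.mp
      ((iSup_basicOpen_gen t ht hgen).ge (trivial : x ∈ (⊤ : (Proj 𝒜).Opens)))
    ⟨_, _, hj, isGen_frame (ht j)⟩

lemma res_pullSec (r : X ⟶ Proj 𝒜) {a b : A} (ha : a ∈ 𝒜 1) (hb : b ∈ 𝒜 1) :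
    res _ (le_top : r ⁻¹ᵁ Proj.basicOpen 𝒜 a ≤ ⊤) (ProjUP.pullSec r (Twist.twist 𝒜 1) (gsec hb)) =
      r.app _ (ratio ha hb) • pb r (frame ha) := by
  rw [pb, ← LFFrame.unitSec_smul, ← res_gsec ha hb]
  exact (LFFrame.unitSec_res r (Twist.twist 𝒜 1) le_top _).symm

lemma res_pullSec_self (r : X ⟶ Proj 𝒜) {a : A} (ha : a ∈ 𝒜 1) :
    res _ (le_top : r ⁻¹ᵁ Proj.basicOpen 𝒜 a ≤ ⊤) (ProjUP.pullSec r (Twist.twist 𝒜 1) (gsec ha)) =
      pb r (frame ha) := by
  rw [res_pullSec r ha ha, ratio_self, map_one, one_smul]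

theorem exists_to_proj {ι : Type v} (t : ι → A) (ht : ∀ i, t i ∈ 𝒜 1)
    (hgen : Algebra.adjoin R (Set.range t) = ⊤) (q₀ : R →+* Γ(X, ⊤)) {L : X.Modules}
    (hL : PicF.IsInvertible L) (s : ι → ProjUP.Γm L) (hs : ProjUP.GeneratedBy L s)
    (hext : ∀ i (c : ι → Γ(X, locus (O := ⊤) (s i))),
      (∀ j, res L (le_top : locus (O := ⊤) (s i) ≤ ⊤) (s j) = c j • res L le_top (s i)) →
        ∃ f : A →+* Γ(X, locus (O := ⊤) (s i)),
          f.comp (algebraMap R A) = (rres le_top).hom.comp q₀ ∧ ∀ j, f (t j) = c j) :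
    ∃ (r : X ⟶ Proj 𝒜) (τ : (Scheme.Modules.pullback r).obj (Twist.twist 𝒜 1) ≅ L),
      r ≫ str 𝒜 = X.toSpecΓ ≫ Spec.map (CommRingCat.ofHom q₀) ∧
      (∀ i, r ⁻¹ᵁ Proj.basicOpen 𝒜 (t i) = locus (O := ⊤) (s i)) ∧
      (∀ i j, res L (le_top : r ⁻¹ᵁ Proj.basicOpen 𝒜 (t i) ≤ ⊤) (s j) =
        r.app _ (ratio (ht i) (ht j)) • res L le_top (s i)) ∧
      ∀ i, τ.hom.app ⊤ (ProjUP.pullSec r (Twist.twist 𝒜 1) (gsec (ht i))) = s i := by
  have hg : ∀ i, IsGen L (locus (O := ⊤) (s i)) (res L le_top (s i)) := fun i => isGen_locus _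
  have hex : ∀ i j, ∃ c : Γ(X, locus (O := ⊤) (s i)),
      res L (le_top : locus (O := ⊤) (s i) ≤ ⊤) (s j) = c • res L le_top (s i) := fun i j => by
    obtain ⟨c, hc, -⟩ := (hg i).exists_eq le_rfl (res L le_top (s j))
    exact ⟨c, by rwa [res_res] at hc⟩
  choose c hc using hex
  choose f hf0 hf using fun i => hext i (c i) (hc i)
  have hf1 : ∀ i, f i (t i) = 1 := fun i => by
    rw [hf]
    refine (hg i).injective le_rfl ?_
    simp only [res_res]
    rw [one_smul]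
    exact (hc i i).symm
  obtain ⟨r, hr, hpre, hco⟩ := exists_glue_charts (X := X) t ht hgen q₀ _
    (iSup_locus_of_generatedBy hL s hs) f hf0 hf1 (fun i j => by
      rw [hf, ← locus_inf le_top (hg i) (s j) (hc i j), inf_comm]) (fun i j l => by
      simp only [hf]
      refine (hg i).injective (inf_le_left : _ ⊓ locus (O := ⊤) (s j) ≤ _) ?_
      rw [← res_smul, ← hc, res_res, mul_comm (rres _ (c i j)), mul_smul, ← res_smul, ← hc, res_res,
        ← res_res L (le_top : locus (O := ⊤) (s j) ≤ ⊤) inf_le_right (s l), hc j l, res_smul,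
        res_res])
  have hcoef : ∀ i j, res L (le_top : r ⁻¹ᵁ Proj.basicOpen 𝒜 (t i) ≤ ⊤) (s j) =
      r.app _ (ratio (ht i) (ht j)) • res L le_top (s i) := by
    intro i j
    have h1 := RingHom.congr_fun (hco i (hpre i).ge)
      (Away.mk 𝒜 (ht i) 1 (t j) (by rw [smul_eq_mul, one_mul]; exact ht j))
    rw [RingHom.comp_apply, awayToSection_mk_one (ht i) (ht j)] at h1
    have hu1 : IsUnit (f i (t i)) := by rw [hf1 i]; exact isUnit_one
    have h2 := liftAway_mk (f i) (g := t i) hu1 (ht i) 1 (t j)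
      (by rw [smul_eq_mul, one_mul]; exact ht j)
    rw [show f i (t i) ^ 1 = 1 by rw [hf1 i, one_pow], mul_one, ← h1, hf] at h2
    have h3 : rres (hpre i).le (c i j) = r.app _ (ratio (ht i) (ht j)) := by
      rw [← h2, Scheme.Hom.app_eq_appLE, ← r.appLE_map (hpre i).ge (homOfLE (hpre i).le).op]
      rfl
    rw [← h3, ← res_res L (le_top : locus (O := ⊤) (s i) ≤ ⊤) (hpre i).le (s j), hc i j, res_smul,
      res_res]
  have hM := isInvertible_twist_one t ht hgen
  obtain ⟨τ, hτ⟩ := exists_iso_of_gen (fun i => r ⁻¹ᵁ Proj.basicOpen 𝒜 (t i))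
    (by rw [← r.preimage_iSup, iSup_basicOpen_gen t ht hgen, r.preimage_top])
    (fun i => pb r (frame (ht i))) (fun i => isGen_pb r (isGen_frame (ht i)))
    (fun i => res L le_top (s i))
    (fun i => by
      have := (hg i).restrict (hpre i).le
      rwa [res_res] at this) (by
      intro i j V hi hj w hw
      have hw' : w = rres hi (r.app _ (ratio (ht i) (ht j))) :=
        (isGen_pb r (isGen_frame (ht i))).injective hi (by
          rw [← hw, ← res_smul, ← res_pullSec, ← res_pullSec_self r (ht j), res_res, res_res])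
      rw [res_res, ← res_res L le_top hi (s j), hcoef i j, res_smul, hw'])
  refine ⟨r, τ, hr, hpre, hcoef, fun i => ?_⟩
  refine eq_of_locally_eq L (U := fun j => r ⁻¹ᵁ Proj.basicOpen 𝒜 (t j)) (fun j => le_top)
    (by rw [← r.preimage_iSup, iSup_basicOpen_gen t ht hgen, r.preimage_top]) _ _ fun j => ?_
  rw [← app_res, res_pullSec r (ht j) (ht i), hcoef j i]
  have h := hτ j _ le_rfl (r.app _ (ratio (ht j) (ht i)))
  rwa [res_self, res_self] at h

theorem to_proj_ext {ι : Type v} (t : ι → A) (ht : ∀ i, t i ∈ 𝒜 1)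
    (hgen : Algebra.adjoin R (Set.range t) = ⊤) {r r' : X ⟶ Proj 𝒜}
    (hstr : r ≫ str 𝒜 = r' ≫ str 𝒜)
    (τ : (Scheme.Modules.pullback r).obj (Twist.twist 𝒜 1) ≅
      (Scheme.Modules.pullback r').obj (Twist.twist 𝒜 1))
    (hτ : ∀ i, τ.hom.app ⊤ (ProjUP.pullSec r (Twist.twist 𝒜 1) (gsec (ht i))) =
      ProjUP.pullSec r' (Twist.twist 𝒜 1) (gsec (ht i))) :
    r = r' := by
  have hM := isInvertible_twist_one t ht hgen
  have hloc : ∀ (p : X ⟶ Proj 𝒜) i,
      locus (O := ⊤) (ProjUP.pullSec p (Twist.twist 𝒜 1) (gsec (ht i))) =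
        p ⁻¹ᵁ Proj.basicOpen 𝒜 (t i) := fun p i => by
    rw [← locus_gsec t ht hgen (ht i), ← locus_pb p hM]
    rfl
  have hpre : ∀ i, r ⁻¹ᵁ Proj.basicOpen 𝒜 (t i) = r' ⁻¹ᵁ Proj.basicOpen 𝒜 (t i) := fun i => by
    rw [← hloc, ← hloc, ← hτ i, locus_app_iso]
  refine hom_ext_charts t ht hgen hstr hpre fun i j => ?_
  rw [awayToSection_mk_one (ht i) (ht j)]
  let W := r ⁻¹ᵁ Proj.basicOpen 𝒜 (t i)
  have h' : IsGen ((Scheme.Modules.pullback r').obj (Twist.twist 𝒜 1)) W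
      (res _ (hpre i).le (pb r' (frame (ht i)))) :=
    (isGen_pb r' (isGen_frame (ht i))).restrict _
  refine h'.injective le_rfl ?_
  rw [res_self, ← Scheme.Hom.app_eq_appLE]
  change _ = rres (hpre i).le (r'.app _ (ratio (ht i) (ht j))) • _
  rw [← res_smul, ← res_pullSec, res_res, ← hτ j, ← app_res, res_pullSec,
    Scheme.Modules.Hom.app_smul]
  congr 1
  rw [← res_pullSec_self r' (ht i), res_res, ← hτ i, ← app_res, res_pullSec_self]

end Groth.Agent.ProjMorph

end
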