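import Groth.Agent.ProjMorph.Segre

/-!
# The Segre embedding over an arbitrary base, and tensor products of very ample modules
-/

set_option autoImplicit false
set_option linter.style.haveILetI false
universe u

open CategoryTheory Limits AlgebraicGeometry TopologicalSpace Opposite

noncomputable section

namespace Groth.Agent.ProjMorph

open Groth.Agent.QCoh Groth.Agent.Props.GenLocus Groth.Agent.AmpleLib
open Groth.Agent.Props.GenTensor Groth.Agent.Props.GenProd Groth.Agent.Props.GenPull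

variable {X Y : Scheme.{u}}

theorem exists_iso_pullback_tensor (f : X ⟶ Y) {K K' : Y.Modules} (hK : PicF.IsInvertible K)
    (hK' : PicF.IsInvertible K') :
    Nonempty ((Scheme.Modules.pullback f).obj (CohB1.tensorMod K K') ≅
      CohB1.tensorMod ((Scheme.Modules.pullback f).obj K) ((Scheme.Modules.pullback f).obj K')) := by
  let ι := {p : Σ U : Y.Opens, Γ(K, U) × Γ(K', U) // IsGen K p.1 p.2.1 ∧ IsGen K' p.1 p.2.2}
  obtain ⟨φ, -⟩ := exists_iso_of_gen (fun i : ι ↦ f ⁻¹ᵁ i.1.1) (by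
      intro x _
      obtain ⟨U, e, hxU, he⟩ := exists_isGen hK (f x)
      obtain ⟨U', e', hxU', he'⟩ := exists_isGen hK' (f x)
      exact Opens.mem_iSup.mpr ⟨(⟨⟨U ⊓ U', res K inf_le_left e, res K' inf_le_right e'⟩,
        he.restrict _, he'.restrict _⟩ : ι), hxU, hxU'⟩)
    (fun i ↦ pb f (tmul i.1.2.1 i.1.2.2)) (fun i ↦ isGen_pb f (isGen_tmul i.2.1 i.2.2))
    (fun i ↦ tmul (pb f i.1.2.1) (pb f i.1.2.2))
    (fun i ↦ isGen_tmul (isGen_pb f i.2.1) (isGen_pb f i.2.2)) (by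
      rintro ⟨⟨U, e, e'⟩, he, he'⟩ ⟨⟨U', d, d'⟩, hd, hd'⟩ V hi hj w hw
      dsimp only at *
      obtain ⟨u, hu, -⟩ := (he.restrict (inf_le_left : U ⊓ U' ≤ U)).exists_eq le_rfl
        (res K (inf_le_right : U ⊓ U' ≤ U') d)
      obtain ⟨u', hu', -⟩ := (he'.restrict (inf_le_left : U ⊓ U' ≤ U)).exists_eq le_rfl
        (res K' (inf_le_right : U ⊓ U' ≤ U') d')
      rw [res_self] at hu hu'
      have hV : V ≤ f ⁻¹ᵁ (U ⊓ U') := fun z hz ↦ ⟨hi hz, hj hz⟩
      have push : ∀ (M : Y.Modules) (a : Γ(M, U)) (b : Γ(M, U')) (c : Γ(Y, U ⊓ U')),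
          res M (inf_le_right : U ⊓ U' ≤ U') b = c • res M (inf_le_left : U ⊓ U' ≤ U) a →
          res ((Scheme.Modules.pullback f).obj M) hj (pb f b) =
            rres hV (f.app _ c) • res ((Scheme.Modules.pullback f).obj M) hi (pb f a) := by
        intro M a b c h
        have h1 := congrArg (LFFrame.unitSec f M (U ⊓ U')) h
        rw [LFFrame.unitSec_smul, LFFrame.unitSec_res, LFFrame.unitSec_res] at h1
        have h2 := congrArg (res _ hV) h1
        rwa [res_smul, res_res, res_res] at h2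
      have h12 := push _ _ _ (u * u') (show res _ (inf_le_right : U ⊓ U' ≤ U') (tmul d d') =
          (u * u') • res _ (inf_le_left : U ⊓ U' ≤ U) (tmul e e') by
        rw [res_tmul, res_tmul, hu, hu', tmul_smul_left, tmul_smul_right, smul_smul])
      rw [h12] at hw
      have hwu := (isGen_pb f (isGen_tmul he he')).injective hi hw
      rw [res_tmul, res_tmul, push _ _ _ u hu, push _ _ _ u' hu', tmul_smul_left, tmul_smul_right,
        smul_smul, ← hwu, map_mul, map_mul])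
  exact ⟨φ⟩

/-- Pullback along equal composites. -/
def pullbackIso {A B C D : Scheme.{u}} {f : A ⟶ B} {g : B ⟶ C} {f' : A ⟶ D} {g' : D ⟶ C}
    (h : f ≫ g = f' ≫ g') (M : C.Modules) :
    (Scheme.Modules.pullback f).obj ((Scheme.Modules.pullback g).obj M) ≅
      (Scheme.Modules.pullback f').obj ((Scheme.Modules.pullback g').obj M) :=
  (Scheme.Modules.pullbackComp f g).app M ≪≫ eqToIso (by rw [h]) ≪≫
    ((Scheme.Modules.pullbackComp f' g').app M).symm

theorem exists_segre_over (S : Scheme.{u}) (n m : ℕ) :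
    ∃ φ : pullback (CohB1.ProjSpaceOver.toBase n S) (CohB1.ProjSpaceOver.toBase m S) ⟶
        CohB1.ProjSpaceOver (n * m + n + m) S,
      IsClosedImmersion φ ∧ φ ≫ CohB1.ProjSpaceOver.toBase (n * m + n + m) S =
        pullback.fst (CohB1.ProjSpaceOver.toBase n S) (CohB1.ProjSpaceOver.toBase m S) ≫
          CohB1.ProjSpaceOver.toBase n S ∧
      Nonempty ((Scheme.Modules.pullback φ).obj (Twist.twistOver (n * m + n + m) S 1) ≅
        CohB1.tensorMod
          ((Scheme.Modules.pullback (pullback.fst (CohB1.ProjSpaceOver.toBase n S)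
            (CohB1.ProjSpaceOver.toBase m S))).obj (Twist.twistOver n S 1))
          ((Scheme.Modules.pullback (pullback.snd (CohB1.ProjSpaceOver.toBase n S)
            (CohB1.ProjSpaceOver.toBase m S))).obj (Twist.twistOver m S 1))) := by
  obtain ⟨φ₀, hφ₀, ⟨τ⟩⟩ := exists_segre.{u} n m
  let tn := CohB1.ProjSpace.toSpec n (ULift.{u} ℤ)
  let tm := CohB1.ProjSpace.toSpec m (ULift.{u} ℤ)
  let tN := CohB1.ProjSpace.toSpec (n * m + n + m) (ULift.{u} ℤ)
  let w := specULiftZIsTerminal.from S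
  let u₁ := pullback.fst (CohB1.ProjSpaceOver.toBase n S) (CohB1.ProjSpaceOver.toBase m S)
  let v₁ := pullback.snd (CohB1.ProjSpaceOver.toBase n S) (CohB1.ProjSpaceOver.toBase m S)
  let g : pullback (CohB1.ProjSpaceOver.toBase n S) (CohB1.ProjSpaceOver.toBase m S) ⟶ pullback tn tm :=
    pullback.lift (u₁ ≫ pullback.fst tn w) (v₁ ≫ pullback.fst tm w) (specULiftZIsTerminal.hom_ext _ _)
  have hg₁ : g ≫ pullback.fst tn tm = u₁ ≫ pullback.fst tn w := pullback.lift_fst _ _ _
  have hg₂ : g ≫ pullback.snd tn tm = v₁ ≫ pullback.fst tm w := pullback.lift_snd _ _ _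
  have sq1 : IsPullback (v₁ ≫ pullback.fst tm w) u₁ tm (CohB1.ProjSpaceOver.toBase n S ≫ w) :=
    (IsPullback.of_hasPullback (CohB1.ProjSpaceOver.toBase n S)
      (CohB1.ProjSpaceOver.toBase m S)).flip.paste_horiz (IsPullback.of_hasPullback tm w)
  rw [← hg₂, show CohB1.ProjSpaceOver.toBase n S ≫ w = pullback.fst tn w ≫ tn from
    specULiftZIsTerminal.hom_ext _ _] at sq1
  have sq2 : IsPullback g u₁ (pullback.fst tn tm) (pullback.fst tn w) :=
    IsPullback.of_right sq1 hg₁ (IsPullback.of_hasPullback tn tm).flip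
  have sq3 : IsPullback g (u₁ ≫ CohB1.ProjSpaceOver.toBase n S) (pullback.fst tn tm ≫ tn) w :=
    sq2.paste_vert (IsPullback.of_hasPullback tn w)
  let φ : pullback (CohB1.ProjSpaceOver.toBase n S) (CohB1.ProjSpaceOver.toBase m S) ⟶
      CohB1.ProjSpaceOver (n * m + n + m) S :=
    pullback.lift (g ≫ φ₀) (u₁ ≫ CohB1.ProjSpaceOver.toBase n S) (specULiftZIsTerminal.hom_ext _ _)
  have hφ₁ : φ ≫ pullback.fst tN w = g ≫ φ₀ := pullback.lift_fst _ _ _
  have hφ₂ : φ ≫ CohB1.ProjSpaceOver.toBase (n * m + n + m) S =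
      u₁ ≫ CohB1.ProjSpaceOver.toBase n S := pullback.lift_snd _ _ _
  rw [← hφ₂, show pullback.fst tn tm ≫ tn = φ₀ ≫ tN from specULiftZIsTerminal.hom_ext _ _] at sq3
  have sq4 : IsPullback g φ φ₀ (pullback.fst tN w) :=
    IsPullback.of_bot sq3 hφ₁.symm (IsPullback.of_hasPullback tN w)
  have hO : ∀ N, PicF.IsInvertible (Twist.twistProjSpace N (ULift.{u} ℤ) 1) := fun N =>
    isInvertible_twist_one (fun k : Fin (N + 1) => MvPolynomial.X k)
      (fun k => MvPolynomial.isHomogeneous_X _ k) MvPolynomial.adjoin_range_X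
  obtain ⟨δ⟩ := exists_iso_pullback_tensor g (PicCl.isInvertible_pullback (pullback.fst tn tm) (hO n))
    (PicCl.isInvertible_pullback (pullback.snd tn tm) (hO m))
  exact ⟨φ, MorphismProperty.of_isPullback sq4 hφ₀, hφ₂,
    ⟨pullbackIso hφ₁ _ ≪≫ (Scheme.Modules.pullback g).mapIso τ ≪≫ δ ≪≫
      PicGrp.tensorModIso (pullbackIso hg₁ _) (pullbackIso hg₂ _)⟩⟩

theorem isRelVeryAmplePn_tensorMod [IsAffine Y] (q : X ⟶ Y) {L L' : X.Modules}
    (hva : RelAmple.IsRelVeryAmplePn q L) (hL' : PicF.IsInvertible L') {m : ℕ}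
    (s : Fin (m + 1) → ProjUP.Γm L') (hs : ProjUP.GeneratedBy L' s) :
    RelAmple.IsRelVeryAmplePn q (CohB1.tensorMod L L') := by
  obtain ⟨n, i, hi, hiq, ⟨e⟩⟩ := hva
  obtain ⟨i', hiq', -, -, ⟨e'⟩⟩ := exists_toProjSpaceOver q hL' s hs
  let h : X ⟶ pullback (CohB1.ProjSpaceOver.toBase n Y) (CohB1.ProjSpaceOver.toBase m Y) :=
    pullback.lift i i' (hiq.trans hiq'.symm)
  have h₁ : h ≫ pullback.fst (CohB1.ProjSpaceOver.toBase n Y) (CohB1.ProjSpaceOver.toBase m Y) = i :=
    pullback.lift_fst _ _ _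
  have h₂ : h ≫ pullback.snd (CohB1.ProjSpaceOver.toBase n Y) (CohB1.ProjSpaceOver.toBase m Y) = i' :=
    pullback.lift_snd _ _ _
  haveI : IsImmersion h := by
    haveI : IsImmersion (h ≫ pullback.fst (CohB1.ProjSpaceOver.toBase n Y)
        (CohB1.ProjSpaceOver.toBase m Y)) := h₁.symm ▸ hi
    exact IsImmersion.of_comp h (pullback.fst _ _)
  obtain ⟨φ, hφ, hφS, ⟨τ⟩⟩ := exists_segre_over Y n m
  clear_value h
  subst h₁ h₂
  have hO : ∀ N, PicF.IsInvertible (Twist.twistOver N Y 1) := fun N =>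
    PicCl.isInvertible_pullback _ (isInvertible_twist_one (fun k : Fin (N + 1) => MvPolynomial.X k)
      (fun k => MvPolynomial.isHomogeneous_X _ k) MvPolynomial.adjoin_range_X)
  obtain ⟨δ⟩ := exists_iso_pullback_tensor h
    (PicCl.isInvertible_pullback (pullback.fst (CohB1.ProjSpaceOver.toBase n Y)
      (CohB1.ProjSpaceOver.toBase m Y)) (hO n))
    (PicCl.isInvertible_pullback (pullback.snd (CohB1.ProjSpaceOver.toBase n Y)
      (CohB1.ProjSpaceOver.toBase m Y)) (hO m))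
  refine ⟨n * m + n + m, h ≫ φ, inferInstance, ?_, ⟨?_⟩⟩
  · rw [← hiq]
    simp only [Category.assoc]
    exact congrArg (h ≫ ·) hφS
  · exact PicGrp.tensorModIso (e ≪≫ ((Scheme.Modules.pullbackComp h _).app _).symm)
      (e' ≪≫ ((Scheme.Modules.pullbackComp h _).app _).symm) ≪≫ δ.symm ≪≫
      (Scheme.Modules.pullback h).mapIso τ.symm ≪≫ (Scheme.Modules.pullbackComp h φ).app _

end Groth.Agent.ProjMorph

end
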