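import Groth.Agent.ProjMorph.VeryAmple
import Groth.Agent.AmpleLib.GlobGen

/-!
# High powers of an ample module are very ample
-/

set_option autoImplicit false
set_option linter.style.haveILetI false
universe u

open CategoryTheory Limits AlgebraicGeometry TopologicalSpace Opposite

noncomputable section

namespace Groth.Agent.ProjMorph

open Groth.Agent.QCoh Groth.Agent.Props.GenLocus Groth.Agent.AmpleLib
open Groth.Agent.Props.GenTensor Groth.Agent.Props.GenProd

variable {X Y : Scheme.{u}}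

theorem exists_iso_tensor_comm {L M : X.Modules} (hL : PicF.IsInvertible L)
    (hM : PicF.IsInvertible M) : Nonempty (CohB1.tensorMod L M ≅ CohB1.tensorMod M L) := by
  let ι := {p : Σ U : X.Opens, Γ(L, U) × Γ(M, U) // IsGen L p.1 p.2.1 ∧ IsGen M p.1 p.2.2}
  obtain ⟨φ, -⟩ := exists_iso_of_gen (fun i : ι ↦ i.1.1) (by
      intro x _
      obtain ⟨U, e, hxU, he⟩ := exists_isGen hL x
      obtain ⟨U', e', hxU', he'⟩ := exists_isGen hM x
      exact Opens.mem_iSup.mpr ⟨(⟨⟨U ⊓ U', res L inf_le_left e, res M inf_le_right e'⟩,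
        he.restrict _, he'.restrict _⟩ : ι), hxU, hxU'⟩)
    (fun i ↦ tmul i.1.2.1 i.1.2.2) (fun i ↦ isGen_tmul i.2.1 i.2.2)
    (fun i ↦ tmul i.1.2.2 i.1.2.1) (fun i ↦ isGen_tmul i.2.2 i.2.1) (by
      rintro ⟨⟨U, e, e'⟩, he, he'⟩ ⟨⟨U', d, d'⟩, hd, hd'⟩ V hi hj w hw
      obtain ⟨u, hu, -⟩ := he.exists_eq hi (res L hj d)
      obtain ⟨u', hu', -⟩ := he'.exists_eq hi (res M hj d')
      dsimp only at *
      rw [res_tmul, res_tmul, hu, hu', tmul_smul_left, tmul_smul_right, smul_smul, ← res_tmul] at hw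
      have hwu := (isGen_tmul he he').injective hi hw
      rw [res_tmul, res_tmul, hu, hu', tmul_smul_left, tmul_smul_right, smul_smul, ← hwu, mul_comm])
  exact ⟨φ⟩

theorem isGen_one (W : X.Opens) : IsGen (Coh.structureModule X) W (one' W) := fun V h => by
  have hsm : (sm (L := Coh.structureModule X) (one' W) h) = id := funext fun a => by
    have h1 : res (Coh.structureModule X) h (one' W) = one' V :=
      (X.presheaf.map (homOfLE h).op).hom.map_one
    simp only [sm, h1, id]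
    exact mul_one a
  rw [hsm]
  exact Function.bijective_id

theorem isInvertible_structureModule : PicF.IsInvertible (Coh.structureModule X) :=
  isInvertible_of_exists_isGen fun _ => ⟨⊤, _, trivial, isGen_one ⊤⟩

theorem exists_iso_tensor_one {L : X.Modules} (hL : PicF.IsInvertible L) :
    Nonempty (CohB1.tensorMod L (Coh.structureModule X) ≅ L) := by
  let ι := {p : Σ U : X.Opens, Γ(L, U) // IsGen L p.1 p.2}
  obtain ⟨φ, -⟩ := exists_iso_of_gen (M := CohB1.tensorMod L (Coh.structureModule X)) (N := L)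
    (fun i : ι ↦ i.1.1) (by
      intro x _
      obtain ⟨U, e, hxU, he⟩ := exists_isGen hL x
      exact Opens.mem_iSup.mpr ⟨(⟨⟨U, e⟩, he⟩ : ι), hxU⟩)
    (fun i ↦ tmul i.1.2 (one' i.1.1)) (fun i ↦ isGen_tmul i.2 (isGen_one _))
    (fun i ↦ i.1.2) (fun i ↦ i.2) (by
      rintro ⟨⟨U, e⟩, he⟩ ⟨⟨U', d⟩, hd⟩ V hi hj w hw
      obtain ⟨u, hu, -⟩ := he.exists_eq hi (res L hj d)
      dsimp only at *
      have h1 : res (Coh.structureModule X) hj (one' U') = res (Coh.structureModule X) hi (one' U) :=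
        ((X.presheaf.map (homOfLE hj).op).hom.map_one).trans
          (X.presheaf.map (homOfLE hi).op).hom.map_one.symm
      rw [res_tmul, res_tmul, hu, h1, tmul_smul_left, ← res_tmul] at hw
      rw [hu, (isGen_tmul he (isGen_one U)).injective hi hw])
  exact ⟨φ⟩

theorem isRelVeryAmplePn_of_iso {q : X ⟶ Y} {L L' : X.Modules} (e : L ≅ L')
    (h : RelAmple.IsRelVeryAmplePn q L) : RelAmple.IsRelVeryAmplePn q L' :=
  let ⟨n, i, hi, hiq, ⟨φ⟩⟩ := h
  ⟨n, i, hi, hiq, ⟨e.symm ≪≫ φ⟩⟩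

/-- An affine cover by loci of one power trivialising two invertible modules. -/
theorem exists_common_cover₂ {L L' : X.Modules} (h : CohB1.IsAmple L) (hL' : PicF.IsInvertible L') :
    ∃ (r k : ℕ) (s : Fin r → (Coh.structureModule X ⟶ CohB1.tensorPow L k)) (U : Fin r → X.Opens),
      0 < k ∧ (∀ i, U i = CohB1.genLocus _ (s i)) ∧ (∀ i, IsAffineOpen (U i)) ∧
      (∀ i, ∃ e : Γ(L, U i), IsGen L (U i) e) ∧ (∀ i, ∃ e : Γ(L', U i), IsGen L' (U i) e) ∧
      ⊤ ≤ iSup U := by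
  classical
  haveI := h.2.1
  have key : ∀ x : X, ∃ (n : ℕ) (s : Coh.structureModule X ⟶ CohB1.tensorPow L (n + 1))
      (U : X.Opens), U = CohB1.genLocus _ s ∧ IsAffineOpen U ∧ x ∈ U ∧
        (∃ e : Γ(L, U), IsGen L U e) ∧ ∃ e : Γ(L', U), IsGen L' U e := by
    intro x
    obtain ⟨V, e, hxV, he⟩ := exists_isGen h.1 x
    obtain ⟨V', e', hxV', he'⟩ := exists_isGen hL' x
    obtain ⟨W, hW, hxW, hWV⟩ :=
      exists_isAffineOpen_mem_and_subset (X := X) (x := x) (U := V ⊓ V') ⟨hxV, hxV'⟩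
    obtain ⟨U, ⟨n, s, rfl⟩, hxU, hUW⟩ :=
      (Opens.isBasis_iff_nbhd.mp (Props.GenExt.isBasis_of_isAmple h)) hxW
    exact ⟨n, s, _, rfl, isAffineOpen_genLocus_of_le (isInvertible_tensorPow h.1 _) s hW hUW, hxU,
      ⟨_, he.restrict ((hUW.trans hWV).trans inf_le_left)⟩,
      ⟨_, he'.restrict ((hUW.trans hWV).trans inf_le_right)⟩⟩
  choose n s U hU hUa hxU he he' using key
  obtain ⟨t, ht⟩ := isCompact_univ.elim_finite_subcover (fun x : X ↦ (U x : Set X))
    (fun x ↦ (U x).2) fun x _ ↦ Set.mem_iUnion.mpr ⟨x, hxU x⟩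
  let k := ∏ x ∈ t, (n x + 1)
  let p : Fin t.card → X := fun i ↦ t.equivFin.symm i
  have hdvd : ∀ i, ∃ a, k = (n (p i) + 1) * a ∧ 0 < a := fun i ↦ by
    obtain ⟨a, ha⟩ := Finset.dvd_prod_of_mem (fun x ↦ n x + 1) (t.equivFin.symm i).2
    exact ⟨a, ha, Nat.pos_of_mul_pos_left (ha ▸ Finset.prod_pos fun x _ ↦ Nat.succ_pos (n x))⟩
  choose a ha hapos using hdvd
  choose s' hs' using fun i ↦ exists_pow h.1 (s (p i)) (a i) k (ha i)
  refine ⟨t.card, k, s', fun i ↦ U (p i), Finset.prod_pos fun x _ ↦ Nat.succ_pos _,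
    fun i ↦ (genLocus_pow h.1 (s (p i)) (hapos i) (s' i) (hs' i)).trans (hU _).symm |>.symm,
    fun i ↦ hUa _, fun i ↦ he _, fun i ↦ he' _, fun x _ ↦ ?_⟩
  obtain ⟨y, hy, hxy⟩ := Set.mem_iUnion₂.mp (ht (Set.mem_univ x))
  refine Opens.mem_iSup.mpr ⟨t.equivFin ⟨y, hy⟩, ?_⟩
  simp only [p, Equiv.symm_apply_apply]
  exact hxy

theorem eventually_veryAmplePn [IsAffine Y] (q : X ⟶ Y) [IsSeparated q] [QuasiCompact q]
    [LocallyOfFiniteType q] {L L' : X.Modules} (h : CohB1.IsAmple L)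
    (hL' : PicF.IsInvertible L') :
    ∃ n₀ : ℕ, ∀ n, n₀ ≤ n →
      RelAmple.IsRelVeryAmplePn q (CohB1.tensorMod (CohB1.tensorPow L n) L') := by
  classical
  haveI := h.2.1
  haveI := isSeparated_of_isAmple h
  obtain ⟨r, k, s, U, hk, hU, hUa, he, he', hcov⟩ := exists_common_cover₂ h hL'
  choose e he using he
  choose e' he' using he'
  have hft : ∀ i, ∃ (d : ℕ) (b : Fin d → Γ(X, U i)),
      Subring.closure (Set.range (q.appLE ⊤ (U i) le_top) ∪ Set.range b) = ⊤ := fun i => by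
    letI := (q.appLE ⊤ (U i) le_top).hom.toAlgebra
    have hfin : Algebra.FiniteType Γ(Y, ⊤) Γ(X, U i) :=
      q.finiteType_appLE (isAffineOpen_top Y) (hUa i) le_top
    obtain ⟨t, ht⟩ := hfin.out
    refine ⟨t.card, fun j => (t.equivFin.symm j).1, ?_⟩
    have hrange : Set.range (fun j => (t.equivFin.symm j).1) = (t : Set Γ(X, U i)) := by
      ext z
      refine ⟨?_, fun hz => ⟨t.equivFin ⟨z, hz⟩, by simp⟩⟩
      rintro ⟨j, rfl⟩
      exact (t.equivFin.symm j).2
    rw [hrange, eq_top_iff]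
    intro z _
    have hz : z ∈ (Algebra.adjoin Γ(Y, ⊤) (t : Set Γ(X, U i))).toSubring :=
      ht.ge (Algebra.mem_top (x := z))
    rw [Algebra.adjoin_eq_ring_closure] at hz
    exact hz
  choose d b hb using hft
  let gsig : ∀ p : Σ i, Option (Fin (d i)), Γ(L', U p.1) := fun p =>
    (p.2.elim 1 (b p.1)) • e' p.1
  choose N hN using fun p : (Σ i, Option (Fin (d i))) × Fin k =>
    exists_twist (ProjTwist.isQCoh_of_isInvertible hL') h.1 (s p.1.1) (hU p.1.1) (he p.1.1)
      (gsig p.1) p.2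
  obtain ⟨N₀, hN₀⟩ : ∃ N₀, ∀ p, N p ≤ N₀ := Finite.exists_le N
  refine ⟨k * (N₀ + 1), fun n hn => ?_⟩
  obtain ⟨l, M, hl, hM, rfl⟩ : ∃ l M, l < k ∧ N₀ ≤ M ∧ n = l + k * M + k := by
    have h1 : N₀ + 1 ≤ n / k := (Nat.le_div_iff_mul_le hk).mpr (by rw [Nat.mul_comm]; exact hn)
    have h2 : k * (n / k - 1) + k = k * (n / k) := by
      rw [← Nat.mul_succ, Nat.succ_eq_add_one, Nat.sub_add_cancel (by omega)]
    have h3 := Nat.mod_add_div n k
    exact ⟨n % k, n / k - 1, Nat.mod_lt _ hk, by omega, by omega⟩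
  let M' := CohB1.tensorMod L' (CohB1.tensorPow L (l + k * M + k))
  have hM' : PicF.IsInvertible M' := isInvertible_tensorMod hL' (isInvertible_tensorPow h.1 _)
  suffices hva : RelAmple.IsRelVeryAmplePn q M' from
    isRelVeryAmplePn_of_iso (exists_iso_tensor_comm hL' (isInvertible_tensorPow h.1 _)).some hva
  obtain ⟨φ⟩ := exists_iso_tensor_pow_add hL' h.1 (l + k * M) k
  choose ρ hρ using fun p : Σ i, Option (Fin (d i)) =>
    hN (p, ⟨l, hl⟩) M ((hN₀ _).trans hM)
  let S : (Σ i, Option (Fin (d i))) → ProjUP.Γm M' := fun p =>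
    φ.hom.app ⊤ (tmul (ρ p) (sec (s p.1) ⊤))
  have hunit : ∀ i, IsUnit (co k (sec (s i) ⊤) le_top (he i) ^ M) := fun i => by
    have e1 : X.basicOpen (co k (sec (s i) ⊤) le_top (he i)) = U i := by
      rw [← genLocus_inf_eq (he i), ← hU, inf_idem]
    have h2 := (RingedSpace.isUnit_res_basicOpen X.toRingedSpace
      (co k (sec (s i) ⊤) le_top (he i))).map (rres e1.ge).hom
    have h3 : rres e1.ge (rres (X.basicOpen_le _) (co k (sec (s i) ⊤) le_top (he i))) =
        co k (sec (s i) ⊤) le_top (he i) := (rres_rres _ _ _).trans (rres_self _ _)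
    exact (h3 ▸ h2 : IsUnit (co k (sec (s i) ⊤) le_top (he i))).pow M
  have hloc : ∀ i, locus (O := ⊤) (S ⟨i, none⟩) = U i := by
    intro i
    simp only [S]
    rw [locus_app_iso, locus_tmul (isInvertible_tensorMod hL' (isInvertible_tensorPow h.1 _))
      (isInvertible_tensorPow h.1 _), ← genLocus_eq_locus, ← hU i, inf_eq_right]
    refine le_locus le_top ?_
    rw [hρ ⟨i, none⟩]
    simp only [gsig, Option.elim, one_smul]
    rw [tmul_smul_left]
    exact (isGen_tmul (he' i) (isGen_pw (he i) _)).smul_unit (hunit i)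
  have hratio : ∀ i j, res M' (le_top : U i ≤ ⊤) (S ⟨i, some j⟩) =
      b i j • res M' le_top (S ⟨i, none⟩) := by
    intro i j
    simp only [S]
    rw [← app_res, ← app_res, res_tmul, res_tmul, hρ ⟨i, some j⟩, hρ ⟨i, none⟩,
      ← Scheme.Modules.Hom.app_smul, ← tmul_smul_left]
    congr 2
    simp only [gsig, Option.elim, one_smul, tmul_smul_left, smul_smul]
    exact congrArg (· • _) (mul_comm _ _)
  let κ := Option (Σ i, Option (Fin (d i)))
  let S' : κ → ProjUP.Γm M' := fun p => p.elim 0 S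
  let E := Fintype.equivFinOfCardEq (Fintype.card_option (α := Σ i, Option (Fin (d i))))
  refine isRelVeryAmplePn_of_sections q hM' (fun m => S' (E.symm m))
    (Set.range fun i => E (some ⟨i, none⟩)) ?_ ?_ ?_
  · refine hcov.trans (iSup_le fun i => le_iSup₂_of_le (E (some ⟨i, none⟩)) ⟨i, rfl⟩ ?_)
    simp only [S', Equiv.symm_apply_apply, Option.elim]
    exact (hloc i).ge
  · rintro _ ⟨i, rfl⟩
    simp only [S', Equiv.symm_apply_apply, Option.elim]
    rw [hloc i]
    exact hUa i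
  · rintro _ ⟨i, rfl⟩
    suffices key : ∀ (σ : ProjUP.Γm M'), σ = S ⟨i, none⟩ → ∀ (W : X.Opens), W = U i →
        IsGen M' W (res M' (le_top : W ≤ ⊤) σ) → ∀ c : Fin (_ + 1) → Γ(X, W),
          (∀ m, res M' (le_top : W ≤ ⊤) (S' (E.symm m)) = c m • res M' le_top σ) →
          Subring.closure (Set.range (q.appLE ⊤ W le_top) ∪ Set.range c) = ⊤ by
      exact key _ (by simp [S']) _ (by simp only [S', Equiv.symm_apply_apply, Option.elim]; exact hloc i)
        (isGen_locus _)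
    rintro σ rfl W rfl hgen c hc
    rw [← top_le_iff, ← hb i, Subring.closure_le]
    rintro z (hz | ⟨j, rfl⟩)
    · exact Subring.subset_closure (Or.inl hz)
    · refine Subring.subset_closure (Or.inr ⟨E (some ⟨i, some j⟩), ?_⟩)
      refine hgen.injective le_rfl ?_
      simp only [res_self]
      rw [← hc, ← hratio i j]
      simp [S']

end Groth.Agent.ProjMorph

end
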