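import Mathlib.AlgebraicGeometry.Morphisms.Affine
import Mathlib.AlgebraicGeometry.PullbackCarrier

/-!
# Functions on a product of affine opens in a fibre product
-/

set_option autoImplicit false
set_option linter.style.haveILetI false
universe u

open CategoryTheory Limits AlgebraicGeometry TopologicalSpace Opposite

noncomputable section

namespace Groth.Agent.ProjMorph

theorem subring_closure_of_isPushout {A B C P : CommRingCat.{u}} {f : A ⟶ B} {g : A ⟶ C}
    {inl : B ⟶ P} {inr : C ⟶ P} (h : IsPushout f g inl inr) :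
    Subring.closure (Set.range inl ∪ Set.range inr) = ⊤ := by
  let S : Subring P := Subring.closure (Set.range inl ∪ Set.range inr)
  let b : B ⟶ CommRingCat.of S := CommRingCat.ofHom
    (inl.hom.codRestrict S fun x => Subring.subset_closure (Or.inl ⟨x, rfl⟩))
  let c : C ⟶ CommRingCat.of S := CommRingCat.ofHom
    (inr.hom.codRestrict S fun x => Subring.subset_closure (Or.inr ⟨x, rfl⟩))
  have hw : f ≫ b = g ≫ c := by
    refine CommRingCat.hom_ext (RingHom.ext fun x => Subtype.ext ?_)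
    exact ConcreteCategory.congr_hom h.w x
  have hid : h.desc b c hw ≫ CommRingCat.ofHom S.subtype = 𝟙 P := by
    refine h.hom_ext ?_ ?_
    · rw [h.inl_desc_assoc]; exact (Category.comp_id inl).symm
    · rw [h.inr_desc_assoc]; exact (Category.comp_id inr).symm
  refine top_le_iff.mp fun z _ => ?_
  have hz : ((h.desc b c hw z : S) : P) = z := ConcreteCategory.congr_hom hid z
  exact hz ▸ (h.desc b c hw z : S).2

variable {X₁ X₂ Z : Scheme.{u}}

/-- Over an affine base the functions on a product of affine opens are generated by the factors. -/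
theorem subring_closure_appLE_pullback [IsAffine Z] (a : X₁ ⟶ Z) (b : X₂ ⟶ Z) {V₁ : X₁.Opens}
    {V₂ : X₂.Opens} (h₁ : IsAffineOpen V₁) (h₂ : IsAffineOpen V₂) {V : (pullback a b).Opens}
    (hV : V = pullback.fst a b ⁻¹ᵁ V₁ ⊓ pullback.snd a b ⁻¹ᵁ V₂) :
    IsAffineOpen V ∧ Subring.closure
      (Set.range ((pullback.fst a b).appLE V₁ V (hV.le.trans inf_le_left)) ∪
        Set.range ((pullback.snd a b).appLE V₂ V (hV.le.trans inf_le_right))) = ⊤ := by
  haveI : IsAffine V₁.toScheme := h₁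
  haveI : IsAffine V₂.toScheme := h₂
  haveI : IsAffineHom (V₂.ι ≫ b) := isAffineHom_of_isAffine _
  let j : pullback (V₁.ι ≫ a) (V₂.ι ≫ b) ⟶ pullback a b :=
    pullback.map _ _ a b V₁.ι V₂.ι (𝟙 Z) (Category.comp_id _) (Category.comp_id _)
  have hj : j.opensRange = V := by
    rw [hV]
    refine Opens.ext ?_
    change Set.range j = _
    simp only [j, Scheme.Pullback.range_map, Scheme.Opens.range_ι]
    rfl
  refine ⟨hj ▸ isAffineOpen_opensRange j, ?_⟩
  have hVj : (⊤ : (pullback (V₁.ι ≫ a) (V₂.ι ≫ b)).Opens) ≤ j ⁻¹ᵁ V := fun x _ => hj.le ⟨x, rfl⟩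
  have hpush := subring_closure_of_isPushout
    (isPushout_appTop_of_isPullback (IsPullback.of_hasPullback (V₁.ι ≫ a) (V₂.ι ≫ b)))
  haveI : IsIso (j.app V) := j.isIso_app V hj.ge
  have hbij : Function.Bijective (j.appLE V ⊤ hVj) := by
    have hV' : j ⁻¹ᵁ V = ⊤ := top_le_iff.mp hVj
    haveI : IsIso (j.appLE V ⊤ hVj) := by
      have hh : IsIso (homOfLE hVj) := ⟨homOfLE hV'.le, rfl, rfl⟩
      rw [Scheme.Hom.appLE]
      infer_instance
    exact ConcreteCategory.bijective_of_isIso _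
  have key : ∀ {W : Scheme.{u}} (p : pullback a b ⟶ W) (O : W.Opens)
      (q : pullback (V₁.ι ≫ a) (V₂.ι ≫ b) ⟶ O.toScheme) (hO : V ≤ p ⁻¹ᵁ O),
      j ≫ p = q ≫ O.ι → ∀ z : Γ(O.toScheme, ⊤),
        q.appTop z ∈ (Subring.map (j.appLE V ⊤ hVj).hom
          (Subring.closure (Set.range (p.appLE O V hO)))) := by
    intro W p O q hO hq z
    have hι : ⊤ ≤ O.ι ⁻¹ᵁ O := fun x _ => x.2
    haveI : IsIso (O.ι.app O) := O.ι.isIso_app O O.opensRange_ι.ge
    have hO' : O.ι ⁻¹ᵁ O = ⊤ := top_le_iff.mp hι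
    haveI : IsIso (O.ι.appLE O ⊤ hι) := by
      have hh : IsIso (homOfLE hι) := ⟨homOfLE hO'.le, rfl, rfl⟩
      rw [Scheme.Hom.appLE]
      infer_instance
    obtain ⟨y, rfl⟩ := (ConcreteCategory.bijective_of_isIso (O.ι.appLE O ⊤ hι)).2 z
    refine ⟨p.appLE O V hO y, Subring.subset_closure ⟨y, rfl⟩, ?_⟩
    have h1 := ConcreteCategory.congr_hom (Scheme.Hom.appLE_comp_appLE j p O V ⊤ hO hVj) y
    have h2 := ConcreteCategory.congr_hom (Scheme.Hom.appLE_comp_appLE q O.ι O ⊤ ⊤ hι le_top) y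
    have h3 : q.appLE ⊤ ⊤ le_top = q.appTop := by rw [Scheme.Hom.appTop, Scheme.Hom.app_eq_appLE]; rfl
    rw [h3] at h2
    refine Eq.trans h1 (Eq.trans ?_ h2.symm)
    congr 2
    simp only [hq]
  refine top_le_iff.mp fun z _ => ?_
  have hz : j.appLE V ⊤ hVj z ∈ Subring.map (j.appLE V ⊤ hVj).hom (Subring.closure
      (Set.range ((pullback.fst a b).appLE V₁ V (hV.le.trans inf_le_left)) ∪
        Set.range ((pullback.snd a b).appLE V₂ V (hV.le.trans inf_le_right)))) := by
    refine (?_ : (⊤ : Subring _) ≤ _) (Subring.mem_top _)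
    rw [← hpush, Subring.closure_le]
    rintro _ (⟨w, rfl⟩ | ⟨w, rfl⟩)
    · refine (Subring.gc_map_comap (j.appLE V ⊤ hVj).hom).monotone_l
        (Subring.closure_mono Set.subset_union_left) ?_
      exact key (pullback.fst a b) V₁ (pullback.fst _ _) _ (pullback.lift_fst _ _ _) w
    · refine (Subring.gc_map_comap (j.appLE V ⊤ hVj).hom).monotone_l
        (Subring.closure_mono Set.subset_union_right) ?_
      exact key (pullback.snd a b) V₂ (pullback.snd _ _) _ (pullback.lift_snd _ _ _) w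
  obtain ⟨y, hy, hyz⟩ := hz
  exact hbij.1 hyz ▸ hy

end Groth.Agent.ProjMorph

end
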