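import Groth.Agent.ProjMorph.Ample
import Groth.Agent.ProjMorph.PullGen

/-!
# The Segre embedding
-/

set_option autoImplicit false
set_option linter.style.haveILetI false
universe u

open CategoryTheory Limits AlgebraicGeometry TopologicalSpace Opposite HomogeneousLocalization

noncomputable section

namespace Groth.Agent.ProjMorph

open Groth.Agent.QCoh Groth.Agent.Props.GenLocus Groth.Agent.AmpleLib
open Groth.Agent.Props.GenTensor Groth.Agent.Props.GenProd Groth.Agent.Props.GenPull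

/-- Functions on a chart of `P^n_ℤ` pulled back lie in the ring generated by the pulled back ratios. -/
theorem appLE_mem_closure_ratios {n : ℕ} {W : Scheme.{u}}
    (p : W ⟶ Proj (CohB1.polyGrading n (ULift.{u} ℤ))) {U : W.Opens} (k : Fin (n + 1))
    (hU : U ≤ p ⁻¹ᵁ Proj.basicOpen _ (MvPolynomial.X k))
    (z : Γ(Proj (CohB1.polyGrading n (ULift.{u} ℤ)), Proj.basicOpen _ (MvPolynomial.X k))) :
    p.appLE _ U hU z ∈ Subring.closure (Set.range fun l => p.appLE _ U hU
      (ratio (MvPolynomial.isHomogeneous_X (ULift.{u} ℤ) k)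
        (MvPolynomial.isHomogeneous_X (ULift.{u} ℤ) l))) := by
  haveI : IsIso (Proj.awayToSection (CohB1.polyGrading n (ULift.{u} ℤ)) (MvPolynomial.X k)) := by
    rw [← Proj.basicOpenIsoAway_hom _ _ (MvPolynomial.isHomogeneous_X (ULift.{u} ℤ) k) one_pos]
    infer_instance
  obtain ⟨w, rfl⟩ := (ConcreteCategory.bijective_of_isIso
    (Proj.awayToSection (CohB1.polyGrading n (ULift.{u} ℤ)) (MvPolynomial.X k))).2 z
  obtain ⟨Q, rfl⟩ := exists_eval_eq_away (𝒜 := CohB1.polyGrading n (ULift.{u} ℤ))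
    (fun l => MvPolynomial.X l) (fun l => MvPolynomial.isHomogeneous_X _ l)
    MvPolynomial.adjoin_range_X k w
  let φ := (p.appLE _ U hU).hom.comp
    (Proj.awayToSection (CohB1.polyGrading n (ULift.{u} ℤ)) (MvPolynomial.X k)).hom
  change φ _ ∈ _
  rw [MvPolynomial.map_eval₂Hom]
  induction Q using MvPolynomial.induction_on with
  | C r =>
    rw [MvPolynomial.eval₂Hom_C]
    have hr : ((r.down : ℤ) : ULift.{u} ℤ) = r := ULift.ext _ _ (by simp)
    have h : ∀ (c : ULift.{u} ℤ →+* Γ(W, U)), c r = ((r.down : ℤ) : Γ(W, U)) := fun c =>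
      (congrArg c hr.symm).trans (map_intCast c r.down)
    rw [h]
    exact intCast_mem _ _
  | add P P' hP hP' => rw [map_add]; exact add_mem hP hP'
  | mul_X P l hP =>
    rw [map_mul, MvPolynomial.eval₂Hom_X']
    refine mul_mem hP (Subring.subset_closure ⟨l, ?_⟩)
    exact congrArg (p.appLE _ U hU) (awayToSection_mk_one _ _ _).symm

set_option maxHeartbeats 120000 in
/-- The Segre sections give a closed immersion of `P^n × P^m` over an affine base. -/
theorem exists_segre (n m : ℕ) :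
    ∃ φ : pullback (CohB1.ProjSpace.toSpec n (ULift.{u} ℤ)) (CohB1.ProjSpace.toSpec m (ULift.{u} ℤ)) ⟶
        CohB1.ProjSpace (n * m + n + m) (ULift.{u} ℤ),
      IsClosedImmersion φ ∧
      Nonempty ((Scheme.Modules.pullback φ).obj (Twist.twistProjSpace (n * m + n + m) (ULift.{u} ℤ) 1) ≅
        CohB1.tensorMod
          ((Scheme.Modules.pullback (pullback.fst (CohB1.ProjSpace.toSpec n (ULift.{u} ℤ))
            (CohB1.ProjSpace.toSpec m (ULift.{u} ℤ)))).obj (Twist.twistProjSpace n (ULift.{u} ℤ) 1))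
          ((Scheme.Modules.pullback (pullback.snd (CohB1.ProjSpace.toSpec n (ULift.{u} ℤ))
            (CohB1.ProjSpace.toSpec m (ULift.{u} ℤ)))).obj (Twist.twistProjSpace m (ULift.{u} ℤ) 1))) := by
  let a : Proj (CohB1.polyGrading n (ULift.{u} ℤ)) ⟶ _ := CohB1.ProjSpace.toSpec n (ULift.{u} ℤ)
  let b : Proj (CohB1.polyGrading m (ULift.{u} ℤ)) ⟶ _ := CohB1.ProjSpace.toSpec m (ULift.{u} ℤ)
  let P := pullback a b
  let p : P ⟶ Proj (CohB1.polyGrading n (ULift.{u} ℤ)) := pullback.fst a b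
  let p' : P ⟶ Proj (CohB1.polyGrading m (ULift.{u} ℤ)) := pullback.snd a b
  let hx : ∀ (N : ℕ) (k : Fin (N + 1)),
      (MvPolynomial.X k : MvPolynomial (Fin (N + 1)) (ULift.{u} ℤ)) ∈
        CohB1.polyGrading N (ULift.{u} ℤ) 1 := fun N k => MvPolynomial.isHomogeneous_X _ k
  let O₁ := Twist.twist (CohB1.polyGrading n (ULift.{u} ℤ)) 1
  let O₂ := Twist.twist (CohB1.polyGrading m (ULift.{u} ℤ)) 1
  have hO₁ : PicF.IsInvertible O₁ :=
    isInvertible_twist_one _ (hx n) MvPolynomial.adjoin_range_X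
  have hO₂ : PicF.IsInvertible O₂ :=
    isInvertible_twist_one _ (hx m) MvPolynomial.adjoin_range_X
  have hp₁ := PicCl.isInvertible_pullback p hO₁
  have hp₂ := PicCl.isInvertible_pullback p' hO₂
  let L := CohB1.tensorMod ((Scheme.Modules.pullback p).obj O₁) ((Scheme.Modules.pullback p').obj O₂)
  have hL : PicF.IsInvertible L := isInvertible_tensorMod hp₁ hp₂
  let e : Fin (n * m + n + m + 1) ≃ Fin (n + 1) × Fin (m + 1) :=
    (finCongr (by ring)).trans finProdFinEquiv.symm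
  let s : Fin (n * m + n + m + 1) → ProjUP.Γm L := fun j =>
    tmul (ProjUP.pullSec p O₁ (gsec (hx n (e j).1))) (ProjUP.pullSec p' O₂ (gsec (hx m (e j).2)))
  have hloc : ∀ j, locus (O := ⊤) (s j) = p ⁻¹ᵁ Proj.basicOpen _ (MvPolynomial.X (e j).1) ⊓
      p' ⁻¹ᵁ Proj.basicOpen _ (MvPolynomial.X (e j).2) := fun j => by
    simp only [s]
    rw [locus_tmul hp₁ hp₂]
    congr 1
    · rw [← locus_gsec _ (hx n) MvPolynomial.adjoin_range_X (hx n (e j).1), ← locus_pb p hO₁]
      rfl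
    · rw [← locus_gsec _ (hx m) MvPolynomial.adjoin_range_X (hx m (e j).2), ← locus_pb p' hO₂]
      rfl
  have hcov : ⊤ ≤ ⨆ j, locus (O := ⊤) (s j) := fun x _ => by
    obtain ⟨k, hk⟩ := Opens.mem_iSup.mp ((iSup_basicOpen_gen _ (hx n) MvPolynomial.adjoin_range_X).ge
      (trivial : p x ∈ (⊤ : (Proj (CohB1.polyGrading n (ULift.{u} ℤ))).Opens)))
    obtain ⟨l, hl⟩ := Opens.mem_iSup.mp ((iSup_basicOpen_gen _ (hx m) MvPolynomial.adjoin_range_X).ge
      (trivial : p' x ∈ (⊤ : (Proj (CohB1.polyGrading m (ULift.{u} ℤ))).Opens)))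
    exact Opens.mem_iSup.mpr ⟨e.symm (k, l), by rw [hloc, Equiv.apply_symm_apply]; exact ⟨hk, hl⟩⟩
  have hsgen : ProjUP.GeneratedBy L s := by
    intro x
    obtain ⟨i, hxi⟩ := Opens.mem_iSup.mp (hcov (trivial : x ∈ (⊤ : P.Opens)))
    have hbij := ((isGen_iff_isFrame _).mp (isGen_locus (O := ⊤) (s i))).stalkComb_bijective x hxi
    refine top_le_iff.mp fun z _ => ?_
    obtain ⟨c, hc⟩ := hbij.2 z
    rw [← hc]
    simp only [LFFrame.stalkComb, Fintype.linearCombination_apply, Fin.sum_univ_one]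
    exact Submodule.smul_mem _ _ (Submodule.subset_span
      ⟨i, (L.presheaf.germ_res_apply _ x hxi (s i)).symm⟩)
  obtain ⟨φ, τ, -, hpre, hcoef, -⟩ := exists_to_proj
    (𝒜 := CohB1.polyGrading (n * m + n + m) (ULift.{u} ℤ)) (fun j => MvPolynomial.X j)
    (hx (n * m + n + m)) MvPolynomial.adjoin_range_X (ProjUP.toGlobal (specULiftZIsTerminal.from P))
    hL s hsgen fun i c _ => ⟨MvPolynomial.eval₂Hom
      ((rres le_top).hom.comp (ProjUP.toGlobal (specULiftZIsTerminal.from P))) c,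
        RingHom.ext fun a => MvPolynomial.eval₂Hom_C _ _ a, fun j => MvPolynomial.eval₂Hom_X' _ _ j⟩
  refine ⟨φ, ?_, ⟨τ⟩⟩
  have haffi : ∀ (N : ℕ) (k : Fin (N + 1)),
      IsAffineOpen (Proj.basicOpen (CohB1.polyGrading N (ULift.{u} ℤ)) (MvPolynomial.X k)) :=
    fun N k => Proj.isAffineOpen_basicOpen _ _ (hx N k) one_pos
  refine isClosedImmersion_of_pieces (X := P) (P := Proj (CohB1.polyGrading (n * m + n + m) (ULift.{u} ℤ)))
    (𝒜 := CohB1.polyGrading (n * m + n + m) (ULift.{u} ℤ)) φ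
    (𝟙 (Proj (CohB1.polyGrading (n * m + n + m) (ULift.{u} ℤ))))
    (str (CohB1.polyGrading (n * m + n + m) (ULift.{u} ℤ))) inferInstance
    (fun j => MvPolynomial.X j) (hx (n * m + n + m))
    MvPolynomial.adjoin_range_X (L := L) s (fun j => ?_)
    (fun j => by rw [Category.comp_id]; exact hpre j)
    (fun j l => ?_) fun j => ?_
  · rw [hloc j]
    exact (subring_closure_appLE_pullback a b (haffi n (e j).1) (haffi m (e j).2)
      (V := p ⁻¹ᵁ Proj.basicOpen _ (MvPolynomial.X (e j).1) ⊓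
        p' ⁻¹ᵁ Proj.basicOpen _ (MvPolynomial.X (e j).2)) rfl).1
  · simp only [Category.comp_id]
    exact hcoef j l
  set U := locus (O := ⊤) (s j) with hU
  intro c hc
  have hgen := (subring_closure_appLE_pullback a b (haffi n (e j).1) (haffi m (e j).2)
    (V := U) (hloc j)).2
  rw [← top_le_iff, ← hgen, Subring.closure_le]
  have hU₁ : U ≤ p ⁻¹ᵁ Proj.basicOpen _ (MvPolynomial.X (e j).1) := (hloc j).le.trans inf_le_left
  have hU₂ : U ≤ p' ⁻¹ᵁ Proj.basicOpen _ (MvPolynomial.X (e j).2) := (hloc j).le.trans inf_le_right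
  have hinj := isGen_locus (O := ⊤) (s j)
  have hres : ∀ k l, res L (le_top : U ≤ ⊤) (s (e.symm (k, l))) =
      (p.appLE _ U hU₁ (ratio (hx n (e j).1) (hx n k)) *
        p'.appLE _ U hU₂ (ratio (hx m (e j).2) (hx m l))) • res L le_top (s j) := by
    intro k l
    simp only [s, Equiv.apply_symm_apply]
    have e1 := congrArg (res _ hU₁) (res_pullSec p (hx n (e j).1) (hx n k))
    have e2 := congrArg (res _ hU₂) (res_pullSec p' (hx m (e j).2) (hx m l))
    have e3 := congrArg (res _ hU₁) (res_pullSec_self p (hx n (e j).1))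
    have e4 := congrArg (res _ hU₂) (res_pullSec_self p' (hx m (e j).2))
    rw [res_res, res_smul] at e1 e2
    rw [res_res] at e3 e4
    rw [res_tmul, res_tmul, e1, e2, e3, e4, tmul_smul_left, tmul_smul_right, smul_smul]
    rfl
  have hcval : ∀ k l, c (e.symm (k, l)) = p.appLE _ U hU₁ (ratio (hx n (e j).1) (hx n k)) *
      p'.appLE _ U hU₂ (ratio (hx m (e j).2) (hx m l)) := fun k l =>
    hinj.injective le_rfl (by rw [res_self]; exact (hc _).symm.trans (hres k l))
  rintro z (⟨w, rfl⟩ | ⟨w, rfl⟩)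
  · refine Subring.closure_le.mpr ?_ (appLE_mem_closure_ratios p (e j).1 hU₁ w)
    rintro _ ⟨k, rfl⟩
    refine Subring.subset_closure (Or.inr ⟨e.symm (k, (e j).2), ?_⟩)
    rw [hcval, ratio_self, map_one, mul_one]
  · refine Subring.closure_le.mpr ?_ (appLE_mem_closure_ratios p' (e j).2 hU₂ w)
    rintro _ ⟨l, rfl⟩
    refine Subring.subset_closure (Or.inr ⟨e.symm ((e j).1, l), ?_⟩)
    rw [hcval, ratio_self, map_one, one_mul]

end Groth.Agent.ProjMorph

end
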