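import Mathlib.RingTheory.MvPolynomial.Homogeneous
import Mathlib.RingTheory.GradedAlgebra.Basic
import Mathlib.RingTheory.Adjoin.FG

/-!
# Graded algebras generated in degree one
-/

set_option autoImplicit false
universe u v

open MvPolynomial

noncomputable section

namespace Groth.Agent.ProjMorph

variable {R A : Type u} [CommRing R] [CommRing A] [Algebra R A] {σ : Type v}

lemma eval₂_mul_of_isHomogeneous {B : Type*} [CommSemiring B] (φ : R →+* B) (v : σ → B) (w : B)
    {Q : MvPolynomial σ R} {d : ℕ} (hQ : Q.IsHomogeneous d) :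
    eval₂ φ (fun j => w * v j) Q = w ^ d * eval₂ φ v Q := by
  rw [eval₂_eq, eval₂_eq, Finset.mul_sum]
  refine Finset.sum_congr rfl fun m hm => ?_
  have hd : Finsupp.weight 1 m = d := hQ (MvPolynomial.mem_support_iff.mp hm)
  rw [Finset.prod_congr rfl fun j _ => mul_pow w (v j) (m j), Finset.prod_mul_distrib,
    Finset.prod_pow_eq_pow_sum, show (∑ i ∈ m.support, m i) = d by
      rw [← hd, Finsupp.weight_apply]
      exact Finset.sum_congr rfl fun i _ => (mul_one _).symm]
  ring

variable {𝒜 : ℕ → Submodule R A} [GradedAlgebra 𝒜] (t : σ → A)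

lemma aeval_mem_of_isHomogeneous (ht : ∀ j, t j ∈ 𝒜 1) {Q : MvPolynomial σ R} {d : ℕ}
    (hQ : Q.IsHomogeneous d) : aeval t Q ∈ 𝒜 d := by
  rw [aeval_def, eval₂_eq]
  refine Submodule.sum_mem _ fun m hm => ?_
  have hd : Finsupp.weight 1 m = d := hQ (MvPolynomial.mem_support_iff.mp hm)
  rw [← Algebra.smul_def]
  refine Submodule.smul_mem _ _ ?_
  rw [← hd, Finsupp.weight_apply]
  exact SetLike.prod_pow_mem_graded 𝒜 (fun _ => 1) t m fun j _ => ht j

lemma exists_isHomogeneous (ht : ∀ j, t j ∈ 𝒜 1) (hgen : Algebra.adjoin R (Set.range t) = ⊤)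
    {d : ℕ} {a : A} (ha : a ∈ 𝒜 d) :
    ∃ Q : MvPolynomial σ R, Q.IsHomogeneous d ∧ aeval t Q = a := by
  classical
  rw [Algebra.adjoin_range_eq_range_aeval] at hgen
  obtain ⟨P, hP⟩ : a ∈ (aeval (R := R) t).range := hgen.ge trivial
  refine ⟨homogeneousComponent d P, homogeneousComponent_isHomogeneous d P, ?_⟩
  have h1 : (DirectSum.decompose 𝒜 a d : A) = a := DirectSum.decompose_of_mem_same 𝒜 ha
  rw [← h1, ← hP]
  change _ = ((DirectSum.decompose 𝒜 (aeval t P) d : 𝒜 d) : A)
  conv_rhs => rw [← sum_homogeneousComponent P, map_sum, DirectSum.decompose_sum,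
    DFinsupp.finsetSum_apply, AddSubmonoidClass.coe_finsetSum]
  rw [Finset.sum_eq_single d (fun e _ he => DirectSum.decompose_of_mem_ne 𝒜
      (aeval_mem_of_isHomogeneous t ht (homogeneousComponent_isHomogeneous e P)) he)
    (fun hd => by rw [homogeneousComponent_eq_zero d P (by simpa using hd)]; simp)]
  exact (DirectSum.decompose_of_mem_same 𝒜
    (aeval_mem_of_isHomogeneous t ht (homogeneousComponent_isHomogeneous d P))).symm

/-- Ring maps differing by a factor on degree one differ by its powers in every degree. -/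
lemma map_eq_pow_mul (ht : ∀ j, t j ∈ 𝒜 1) (hgen : Algebra.adjoin R (Set.range t) = ⊤)
    {B : Type*} [CommRing B] {f f' : A →+* B}
    (halg : f'.comp (algebraMap R A) = f.comp (algebraMap R A)) (w : B)
    (h : ∀ j, f' (t j) = w * f (t j)) (d : ℕ) (a : A) (ha : a ∈ 𝒜 d) : f' a = w ^ d * f a := by
  obtain ⟨Q, hQ, rfl⟩ := exists_isHomogeneous t ht hgen ha
  rw [map_aeval, map_aeval, coe_eval₂Hom, coe_eval₂Hom, halg, show (fun i => f' (t i)) = fun i => w * f (t i) from funext h,
    eval₂_mul_of_isHomogeneous _ _ _ hQ]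

end Groth.Agent.ProjMorph

end
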