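import Groth.Agent.ProjMorph.Chart
import Groth.Agent.ProjMorph.Gen
import Groth.Agent.QCoh.Basic

/-!
# Gluing and comparing morphisms into `Proj` of an algebra generated in degree one
-/

set_option autoImplicit false
set_option linter.style.haveILetI false
universe u v

open CategoryTheory Limits AlgebraicGeometry TopologicalSpace Opposite HomogeneousLocalization

noncomputable section

namespace Groth.Agent.ProjMorph

open Groth.Agent.QCoh

variable {R A : Type u} [CommRing R] [CommRing A] [Algebra R A] {𝒜 : ℕ → Submodule R A}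
  [GradedAlgebra 𝒜]

variable (𝒜) in
/-- The structure morphism of `Proj A` over `Spec R`. -/
abbrev str : Proj 𝒜 ⟶ Spec (CommRingCat.of R) :=
  Proj.toSpecZero 𝒜 ≫ Spec.map (CommRingCat.ofHom (algebraMap R (𝒜 0)))

variable {X : Scheme.{u}}

lemma toSpecΓ_SpecMap_injective {W : X.Opens} {B : CommRingCat.{u}} {a b : B ⟶ Γ(X, W)}
    (h : W.toSpecΓ ≫ Spec.map a = W.toSpecΓ ≫ Spec.map b) : a = b := by
  have h2 := congrArg Scheme.Hom.appTop h
  simp only [Scheme.Hom.comp_appTop, Scheme.Opens.toSpecΓ_appTop, Scheme.ΓSpecIso_naturality_assoc,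
    cancel_epi] at h2
  exact (cancel_mono _).mp h2

lemma awayHom_str {W : X.Opens} {g : A} {k : ℕ} (hg : g ∈ 𝒜 k) (hk : 0 < k)
    (φ : Away 𝒜 g →+* Γ(X, W)) :
    awayHom 𝒜 W hg hk φ ≫ str 𝒜 = W.toSpecΓ ≫ Spec.map (CommRingCat.ofHom
      ((φ.comp (fromZeroRingHom 𝒜 _)).comp (algebraMap R (𝒜 0)))) := by
  rw [← Category.assoc, awayHom_toSpecZero, Category.assoc, ← Spec.map_comp]
  rfl

variable {ι : Type v} (t : ι → A) (ht : ∀ i, t i ∈ 𝒜 1) (hgen : Algebra.adjoin R (Set.range t) = ⊤)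

include ht hgen in
lemma iSup_basicOpen_gen : ⨆ i, Proj.basicOpen 𝒜 (t i) = ⊤ := by
  refine Proj.iSup_basicOpen_eq_top' 𝒜 t (fun i => ⟨1, ht i⟩) (top_le_iff.mp fun a _ => ?_)
  have ha : a ∈ Algebra.adjoin R (Set.range t) := hgen.ge trivial
  induction ha using Algebra.adjoin_induction with
  | mem x hx => exact Algebra.subset_adjoin hx
  | algebraMap r => exact Subalgebra.algebraMap_mem _ (algebraMap R (𝒜 0) r)
  | add x y _ _ hx hy => exact add_mem (hx trivial) (hy trivial)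
  | mul x y _ _ hx hy => exact mul_mem (hx trivial) (hy trivial)

include ht hgen in
theorem exists_glue_charts (q₀ : R →+* Γ(X, ⊤)) (U : ι → X.Opens) (hcov : ⊤ ≤ iSup U)
    (f : ∀ i, A →+* Γ(X, U i))
    (hf0 : ∀ i, (f i).comp (algebraMap R A) = (rres (le_top : U i ≤ ⊤)).hom.comp q₀)
    (hf1 : ∀ i, f i (t i) = 1)
    (hinf : ∀ i j, U i ⊓ U j = X.basicOpen (f i (t j)))
    (hcoc : ∀ i j l, rres (inf_le_left : U i ⊓ U j ≤ U i) (f i (t l)) =
      rres (inf_le_left : U i ⊓ U j ≤ U i) (f i (t j)) *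
        rres (inf_le_right : U i ⊓ U j ≤ U j) (f j (t l))) :
    ∃ r : X ⟶ Proj 𝒜, r ≫ str 𝒜 = X.toSpecΓ ≫ Spec.map (CommRingCat.ofHom q₀) ∧
      (∀ i, r ⁻¹ᵁ Proj.basicOpen 𝒜 (t i) = U i) ∧
      ∀ i (h : U i ≤ r ⁻¹ᵁ Proj.basicOpen 𝒜 (t i)),
        (r.appLE (Proj.basicOpen 𝒜 (t i)) (U i) h).hom.comp (Proj.awayToSection 𝒜 (t i)).hom =
          liftAway 𝒜 (f i) (g := t i) (by rw [hf1 i]; exact isUnit_one) := by
  have hu : ∀ i, IsUnit (f i (t i)) := fun i => by rw [hf1 i]; exact isUnit_one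
  let chart : ∀ i, (U i : Scheme.{u}) ⟶ Proj 𝒜 := fun i =>
    awayHom 𝒜 (U i) (ht i) one_pos (liftAway 𝒜 (f i) (hu i))
  have hov : ∀ i j, X.homOfLE (inf_le_left : U i ⊓ U j ≤ U i) ≫ chart i =
      X.homOfLE (inf_le_right : U i ⊓ U j ≤ U j) ≫ chart j := by
    intro i j
    let fi : A →+* Γ(X, U i ⊓ U j) := (rres (inf_le_left : U i ⊓ U j ≤ U i)).hom.comp (f i)
    let fj : A →+* Γ(X, U i ⊓ U j) := (rres (inf_le_right : U i ⊓ U j ≤ U j)).hom.comp (f j)
    have hui : IsUnit (fi (t i)) := (hu i).map (rres inf_le_left).hom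
    have huj : IsUnit (fj (t j)) := (hu j).map (rres inf_le_right).hom
    have huij : IsUnit (fi (t j)) := by
      have h0 := RingedSpace.isUnit_res_basicOpen X.toRingedSpace (f i (t j))
      have h1 := h0.map (rres (hinf i j).le).hom
      exact (rres_rres (X.basicOpen_le (f i (t j))) (hinf i j).le (f i (t j))) ▸ h1
    have hji : IsUnit (fj (t i)) := by
      have h1 : fi (t i) = fi (t j) * fj (t i) := hcoc i j i
      exact isUnit_of_mul_isUnit_right (h1 ▸ hui)
    have hxi : IsUnit (fi (t i * t j)) := by rw [map_mul]; exact hui.mul huij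
    have hxj : IsUnit (fj (t i * t j)) := by rw [map_mul]; exact hji.mul huj
    simp only [chart]
    rw [homOfLE_awayHom, homOfLE_awayHom, comp_liftAway, comp_liftAway,
      awayHom_eq_mul (hg := ht i) (hk := one_pos) fi hui (ht j) rfl hxi,
      awayHom_eq_mul (hg := ht j) (hk := one_pos) fj huj (ht i) (mul_comm _ _) hxj]
    congr 1
    refine liftAway_congr fj hxj hxi (fi (t j)) (map_eq_pow_mul t ht hgen ?_ _ fun l => hcoc i j l)
      (SetLike.mul_mem_graded (ht i) (ht j))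
    ext c
    have h1 : f i (algebraMap R A c) = rres (le_top : U i ≤ ⊤) (q₀ c) := RingHom.congr_fun (hf0 i) c
    have h2 : f j (algebraMap R A c) = rres (le_top : U j ≤ ⊤) (q₀ c) := RingHom.congr_fun (hf0 j) c
    change rres inf_le_left (f i _) = rres inf_le_right (f j _)
    rw [h1, h2, rres_rres, rres_rres]
  let 𝒰 : X.OpenCover := X.openCoverOfIsOpenCover U (top_le_iff.mp hcov)
  obtain ⟨r, hr⟩ : ∃ r : X ⟶ Proj 𝒜, ∀ i, (U i).ι ≫ r = chart i := by
    refine ⟨𝒰.glueMorphisms chart fun i j => ?_, 𝒰.ι_glueMorphisms chart _⟩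
    change pullback.fst (U i).ι (U j).ι ≫ chart i = pullback.snd (U i).ι (U j).ι ≫ chart j
    rw [← cancel_epi (isPullback_opens_inf (U i) (U j)).isoPullback.hom, ← Category.assoc,
      ← Category.assoc, IsPullback.isoPullback_hom_fst, IsPullback.isoPullback_hom_snd]
    exact hov i j
  have hpre : ∀ i j, (U i).ι ⁻¹ᵁ (r ⁻¹ᵁ Proj.basicOpen 𝒜 (t j)) = (U i).ι ⁻¹ᵁ (U i ⊓ U j) := by
    intro i j
    rw [← Scheme.Hom.comp_preimage, hr i, awayHom_preimage _ (ht j) one_pos,
      liftAway_isLocalizationElem (f i) (hu i) (ht j) one_pos, hinf]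
  have hpre' : ∀ i, r ⁻¹ᵁ Proj.basicOpen 𝒜 (t i) = U i := by
    intro j
    ext x
    obtain ⟨i, hi⟩ := Opens.mem_iSup.mp (hcov (trivial : x ∈ (⊤ : X.Opens)))
    have h1 := congrArg (fun O => (⟨x, hi⟩ : (U i : Scheme.{u})) ∈ O) (hpre i j)
    simp only [eq_iff_iff] at h1
    exact h1.trans (and_iff_right hi)
  refine ⟨r, Scheme.Cover.hom_ext 𝒰 _ _ fun i => ?_, hpre', fun i h =>
    appLE_eq_of_ι_comp_eq r h _ (hr i)⟩
  change (U i).ι ≫ _ = (U i).ι ≫ _
  rw [← Category.assoc, hr i, awayHom_str, ← Category.assoc,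
    ← Scheme.Opens.toSpecΓ_SpecMap_presheaf_map_top, Category.assoc, ← Spec.map_comp]
  congr 2
  refine CommRingCat.hom_ext (RingHom.ext fun c => ?_)
  exact (liftAway_fromZero (f i) (hu i) (algebraMap R (𝒜 0) c)).trans (RingHom.congr_fun (hf0 i) c)

include hgen in
/-- Elements of the chart ring are polynomials in the ratios. -/
theorem exists_eval_eq_away (i : ι) (z : Away 𝒜 (t i)) :
    ∃ Q : MvPolynomial ι R, z = MvPolynomial.eval₂Hom
      ((fromZeroRingHom 𝒜 (Submonoid.powers (t i))).comp (algebraMap R (𝒜 0)))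
      (fun j => Away.mk 𝒜 (ht i) 1 (t j) (by rw [smul_eq_mul, one_mul]; exact ht j)) Q := by
  obtain ⟨d, a, ha, rfl⟩ := Away.mk_surjective 𝒜 (ht i) z
  obtain ⟨Q, hQ, hQa⟩ := exists_isHomogeneous t ht hgen
    (show a ∈ 𝒜 d by rwa [smul_eq_mul, mul_one] at ha)
  let x : ι → Away 𝒜 (t i) := fun j =>
    Away.mk 𝒜 (ht i) 1 (t j) (by rw [smul_eq_mul, one_mul]; exact ht j)
  let c : R →+* Away 𝒜 (t i) := (fromZeroRingHom 𝒜 _).comp (algebraMap R (𝒜 0))
  have key : Away.mk 𝒜 (ht i) d a ha = MvPolynomial.eval₂Hom c x Q := by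
    refine HomogeneousLocalization.val_injective _ ?_
    rw [Away.val_mk, show (MvPolynomial.eval₂Hom c x Q).val =
      algebraMap (Away 𝒜 (t i)) (Localization.Away (t i)) (MvPolynomial.eval₂Hom c x Q) from rfl,
      MvPolynomial.map_eval₂Hom, MvPolynomial.coe_eval₂Hom]
    let w : Localization.Away (t i) := Localization.mk 1 ⟨t i, 1, pow_one _⟩
    have hx : ∀ j, algebraMap (Away 𝒜 (t i)) (Localization.Away (t i)) (x j) =
        w * algebraMap A (Localization.Away (t i)) (t j) := fun j => by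
      change (x j).val = _
      rw [Away.val_mk, ← Localization.mk_one_eq_algebraMap, Localization.mk_mul]
      simp
    have hc : (algebraMap (Away 𝒜 (t i)) (Localization.Away (t i))).comp c =
        (algebraMap A (Localization.Away (t i))).comp (algebraMap R A) := RingHom.ext fun b => by
      simp [c, fromZeroRingHom]
      rfl
    rw [hc, funext hx, eval₂_mul_of_isHomogeneous _ _ _ hQ,
      show MvPolynomial.eval₂ ((algebraMap A (Localization.Away (t i))).comp (algebraMap R A))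
          (fun x => algebraMap A (Localization.Away (t i)) (t x)) Q =
          algebraMap A (Localization.Away (t i)) a from
        (MvPolynomial.eval₂_comp_left _ _ t Q).symm.trans (congrArg _ hQa),
      ← Localization.mk_one_eq_algebraMap, Localization.mk_pow, Localization.mk_mul, one_pow, one_mul]
    exact congrArg _ (Subtype.ext (by simp))
  exact ⟨Q, key⟩

include ht hgen in
/-- A morphism into `Proj A` over `R` is determined by the preimages of the charts and the ratios. -/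
theorem hom_ext_charts {r r' : X ⟶ Proj 𝒜} (hstr : r ≫ str 𝒜 = r' ≫ str 𝒜)
    (hpre : ∀ i, r ⁻¹ᵁ Proj.basicOpen 𝒜 (t i) = r' ⁻¹ᵁ Proj.basicOpen 𝒜 (t i))
    (hcoef : ∀ i j, r.appLE _ _ le_rfl (Proj.awayToSection 𝒜 (t i)
        (Away.mk 𝒜 (ht i) 1 (t j) (by rw [smul_eq_mul, one_mul]; exact ht j))) =
      r'.appLE _ _ (hpre i).le (Proj.awayToSection 𝒜 (t i)
        (Away.mk 𝒜 (ht i) 1 (t j) (by rw [smul_eq_mul, one_mul]; exact ht j)))) :
    r = r' := by
  have hcov : ⊤ ≤ ⨆ i, r ⁻¹ᵁ Proj.basicOpen 𝒜 (t i) := by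
    rw [← r.preimage_iSup, iSup_basicOpen_gen t ht hgen, r.preimage_top]
  refine Scheme.Cover.hom_ext (X.openCoverOfIsOpenCover _ (top_le_iff.mp hcov)) _ _ fun (i : ι) => ?_
  let W := r ⁻¹ᵁ Proj.basicOpen 𝒜 (t i)
  change W.ι ≫ r = W.ι ≫ r'
  let φ := (r.appLE _ W le_rfl).hom.comp (Proj.awayToSection 𝒜 (t i)).hom
  let φ' := (r'.appLE _ W (hpre i).le).hom.comp (Proj.awayToSection 𝒜 (t i)).hom
  rw [ι_comp_eq_awayHom (hg := ht i) (hk := one_pos) r le_rfl,
    ι_comp_eq_awayHom (hg := ht i) (hk := one_pos) r' (hpre i).le]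
  suffices φ = φ' by exact congrArg (awayHom 𝒜 W (ht i) one_pos) this
  have h0 : (φ.comp (fromZeroRingHom 𝒜 _)).comp (algebraMap R (𝒜 0)) =
      (φ'.comp (fromZeroRingHom 𝒜 _)).comp (algebraMap R (𝒜 0)) := by
    have h1 := congrArg (W.ι ≫ ·) hstr
    simp only [← Category.assoc] at h1
    rw [ι_comp_eq_awayHom (hg := ht i) (hk := one_pos) r le_rfl,
      ι_comp_eq_awayHom (hg := ht i) (hk := one_pos) r' (hpre i).le, Category.assoc, Category.assoc,
      awayHom_str, awayHom_str] at h1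
    exact congrArg CommRingCat.Hom.hom (toSpecΓ_SpecMap_injective h1)
  refine RingHom.ext fun z => ?_
  obtain ⟨Q, rfl⟩ := exists_eval_eq_away t ht hgen i z
  rw [MvPolynomial.map_eval₂Hom, MvPolynomial.map_eval₂Hom]
  congr 1
  exact congrArg₂ MvPolynomial.eval₂Hom h0 (funext fun j => hcoef i j)

end Groth.Agent.ProjMorph

end
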